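import Cfsg.Agent.Lib.Solvable.CoprimeAbelian
import Cfsg.Agent.Lib.PGroup.OmegaRankTwo
import Cfsg.Agent.Lib.OddOrder.OmegaFix
import Cfsg.Agent.Lib.FGStruct.MetacyclicAut

/-!
# Coprime actions on metacyclic `p`-groups, `p` odd
-/

set_option autoImplicit false
set_option linter.style.haveILetI false

namespace CfsgLib.Metacyclic

open Subgroup
open scoped commutatorElement

variable {G : Type*} [Group G]

theorem mul_pow_swap {a b e : G} (h : a * b = e * (b * a)) (hea : Commute e a) (heb : Commute e b) :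
    ∀ i l : ℕ, a ^ i * b ^ l = e ^ (i * l) * (b ^ l * a ^ i) := by
  have h1 : ∀ l : ℕ, a * b ^ l = e ^ l * (b ^ l * a) := by
    intro l
    induction l with
    | zero => simp
    | succ l ih =>
      calc a * b ^ (l + 1) = (a * b ^ l) * b := by rw [pow_succ, mul_assoc]
        _ = e ^ l * b ^ l * (a * b) := by rw [ih]; simp only [mul_assoc]
        _ = e ^ l * (b ^ l * e) * (b * a) := by rw [h]; simp only [mul_assoc]
        _ = e ^ (l + 1) * (b ^ (l + 1) * a) := by
          rw [← (heb.pow_right l).eq, pow_succ, pow_succ]; simp only [mul_assoc]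
  intro i l
  induction i with
  | zero => simp
  | succ i ih =>
    calc a ^ (i + 1) * b ^ l = a ^ i * (a * b ^ l) := by rw [pow_succ, mul_assoc]
      _ = (a ^ i * e ^ l) * (b ^ l * a) := by rw [h1]; simp only [mul_assoc]
      _ = e ^ l * (a ^ i * b ^ l) * a := by
        rw [((hea.pow_left l).pow_right i).symm.eq]; simp only [mul_assoc]
      _ = e ^ ((i + 1) * l) * (b ^ l * a ^ (i + 1)) := by
        rw [ih, add_mul, one_mul, add_comm (i * l) l, pow_add, pow_succ]; simp only [mul_assoc]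

variable [Finite G]

theorem exists_pow_mul_pow {R : Subgroup G} {a b : G}
    (hN : zpowers b ≤ normalizer (zpowers a : Set G)) (hsup : zpowers a ⊔ zpowers b = R) {x : G}
    (hx : x ∈ R) : ∃ i j : ℕ, x = a ^ i * b ^ j := by
  rw [← hsup] at hx
  obtain ⟨y, hy, z, hz, rfl⟩ := (CfsgLib.Solvable.mem_sup_of_le_normalizer hN).mp hx
  rw [← (isOfFinOrder_of_finite a).mem_powers_iff_mem_zpowers] at hy
  rw [← (isOfFinOrder_of_finite b).mem_powers_iff_mem_zpowers] at hz
  obtain ⟨i, rfl⟩ := hy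
  obtain ⟨j, rfl⟩ := hz
  exact ⟨i, j, rfl⟩

theorem commute_of_sup {R : Subgroup G} {a b : G} (hsup : zpowers a ⊔ zpowers b = R)
    (hab : a * b = b * a) {x y : G} (hx : x ∈ R) (hy : y ∈ R) : x * y = y * x := by
  have hle : ∀ z : G, a * z = z * a → b * z = z * b → R ≤ centralizer ({z} : Set G) := fun z ha hb =>
    hsup ▸ sup_le (zpowers_le.mpr (mem_centralizer_singleton_iff.mpr ha))
      (zpowers_le.mpr (mem_centralizer_singleton_iff.mpr hb))
  have hya := mem_centralizer_singleton_iff.mp (hle a rfl hab.symm hy)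
  have hyb := mem_centralizer_singleton_iff.mp (hle b hab rfl hy)
  exact mem_centralizer_singleton_iff.mp (hle y hya.symm hyb.symm hx)

/-- If `[R, A] = R` then the fixed points lie in every invariant subgroup with abelian quotient. -/
theorem le_of_commutator_eq {R A W : Subgroup G} (hA : A ≤ normalizer (R : Set G))
    (hcop : (Nat.card A).Coprime (Nat.card R)) (hWR : R ≤ normalizer (W : Set G))
    (hWA : A ≤ normalizer (W : Set G)) (hcomm : ∀ x ∈ R, ∀ y ∈ R, x * y * x⁻¹ * y⁻¹ ∈ W)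
    (heq : ⁅R, A⁆ = R) : R ⊓ centralizer (A : Set G) ≤ W := by
  intro x hx
  obtain ⟨hxR, hxC⟩ := Subgroup.mem_inf.mp hx
  set L : Subgroup G := R ⊔ A with hL
  haveI hn : (W.subgroupOf L).Normal :=
    normal_subgroupOf_of_le_normalizer (sup_le hWR hWA)
  set π := QuotientGroup.mk' (W.subgroupOf L) with hπ
  set R₁ := (R.subgroupOf L).map π with hR₁
  set A₁ := (A.subgroupOf L).map π with hA₁
  have heq₁ : ⁅R₁, A₁⁆ = R₁ := by
    rw [hR₁, hA₁, ← Subgroup.map_commutator]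
    congr 1
    refine map_injective L.subtype_injective ?_
    rw [Subgroup.map_commutator, subgroupOf_map_subtype, subgroupOf_map_subtype,
      inf_eq_left.mpr le_sup_left, inf_eq_left.mpr le_sup_right, heq]
  haveI : IsMulCommutative R₁ := IsMulCommutative.of_setLike_mul_comm <| by
    rintro _ ⟨u, hu, rfl⟩ _ ⟨v, hv, rfl⟩
    rw [← map_mul, ← map_mul]
    refine QuotientGroup.eq.mpr ?_
    have := hcomm (v : G)⁻¹ (inv_mem hv) (u : G)⁻¹ (inv_mem hu)
    rw [Subgroup.mem_subgroupOf]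
    push_cast
    simpa [mul_assoc] using this
  have hn₁ : A₁ ≤ normalizer (R₁ : Set (L ⧸ W.subgroupOf L)) := by
    refine le_trans (Subgroup.map_mono ?_) (le_normalizer_map π)
    intro a ha
    rw [Subgroup.mem_normalizer_iff]
    intro z
    exact (Subgroup.mem_normalizer_iff.mp (hA (Subgroup.mem_subgroupOf.mp ha))) (z : G)
  have hcop₁ : (Nat.card A₁).Coprime (Nat.card R₁) := by
    refine Nat.Coprime.coprime_dvd_left ?_ (hcop.coprime_dvd_right ?_)
    · exact (Subgroup.card_map_dvd _ _).trans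
        (Nat.card_congr (subgroupOfEquivOfLe (le_sup_right : A ≤ L)).toEquiv).dvd
    · exact (Subgroup.card_map_dvd _ _).trans
        (Nat.card_congr (subgroupOfEquivOfLe (le_sup_left : R ≤ L)).toEquiv).dvd
  have h := CfsgLib.Solvable.centralizer_inf_commutator_eq_bot (V := R₁) (A := A₁) hn₁ hcop₁
  rw [heq₁] at h
  have hmem : π ⟨x, mem_sup_left hxR⟩ ∈ R₁ := ⟨⟨x, mem_sup_left hxR⟩, hxR, rfl⟩
  have hfix : π ⟨x, mem_sup_left hxR⟩ ∈ centralizer (A₁ : Set (L ⧸ W.subgroupOf L)) := by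
    rintro _ ⟨a, ha, rfl⟩
    rw [← map_mul, ← map_mul]
    exact congrArg π (Subtype.ext (hxC (a : G) ha))
  have := (QuotientGroup.eq_one_iff (⟨x, mem_sup_left hxR⟩ : L)).mp
    (mem_bot.mp (h ▸ Subgroup.mem_inf.mpr ⟨Subgroup.mem_inf.mpr ⟨hmem, hfix⟩, hmem⟩))
  exact this

variable {p : ℕ} [hp : Fact p.Prime]

/-- The main case: a non-abelian two generator group with commutators in a central subgroup of
order `p` contained in the cyclic subgroup of one generator. -/
theorem commutator_ne_self_aux (hp2 : p ≠ 2) {R A : Subgroup G} (hR : IsPGroup p R)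
    (hA : A ≤ normalizer (R : Set G)) (hcop : (Nat.card A).Coprime (Nat.card R)) {c a₀ b₀ : G}
    (hco : orderOf c = p) (hcc : ∀ x ∈ R, x * c = c * x)
    (hcomm : ∀ x ∈ R, ∀ y ∈ R, x * y * x⁻¹ * y⁻¹ ∈ zpowers c) (hc₀ : c ∈ zpowers a₀)
    (hsup₀ : zpowers a₀ ⊔ zpowers b₀ = R) (hnab : a₀ * b₀ ≠ b₀ * a₀) : ⁅R, A⁆ ≠ R := by
  classical
  have hpp : p.Prime := hp.out
  have ha₀ : a₀ ∈ R := hsup₀ ▸ mem_sup_left (mem_zpowers a₀)
  have hb₀ : b₀ ∈ R := hsup₀ ▸ mem_sup_right (mem_zpowers b₀)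
  have hcR : c ∈ R := zpowers_le.mpr ha₀ hc₀
  have hzc : ∀ z ∈ zpowers c, ∀ x ∈ R, Commute z x := by
    rintro z ⟨i, rfl⟩ x hx
    exact (show Commute c x from (hcc x hx).symm).zpow_left i
  have hzp : ∀ z ∈ zpowers c, z ^ p = 1 := by
    rintro z ⟨i, rfl⟩
    rw [← zpow_natCast (c ^ i), ← zpow_mul, mul_comm, zpow_mul, zpow_natCast, ← hco,
      pow_orderOf_eq_one, one_zpow]
  have hord : ∀ x ∈ R, ∀ n : ℕ, ¬ p ∣ n → ∃ m : ℕ, (x ^ n) ^ m = x := fun x hx n hn => by
    obtain ⟨k, hk⟩ := hR ⟨x, hx⟩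
    refine exists_pow_eq_self_of_coprime ?_
    exact Nat.Coprime.coprime_dvd_right
      (orderOf_dvd_of_pow_eq_one (congrArg Subtype.val hk))
      (Nat.Coprime.pow_right k ((hpp.coprime_iff_not_dvd).mpr hn).symm)
  obtain ⟨m2, hm2⟩ : p ∣ p.choose 2 :=
    hpp.dvd_choose_self two_ne_zero (lt_of_le_of_ne hpp.two_le hp2.symm)
  have hpmul : ∀ x ∈ R, ∀ y ∈ R, (x * y) ^ p = x ^ p * y ^ p := by
    intro x hx y hy
    have hd := hcomm y hy x hx
    rw [CfsgLib.OddOrder.mul_pow_of_central_commutator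
      (c := y * x * y⁻¹ * x⁻¹) (by group) (hzc _ hd x hx) (hzc _ hd y hy) p, hm2, pow_mul,
      hzp _ hd, one_pow, one_mul]
  have hpk : ∀ (k : ℕ), ∀ x ∈ R, ∀ y ∈ R, (x * y) ^ p ^ k = x ^ p ^ k * y ^ p ^ k := by
    intro k
    induction k with
    | zero => intro x _ y _; simp
    | succ k ih =>
      intro x hx y hy
      rw [pow_succ', pow_mul, hpmul x hx y hy, ih _ (pow_mem hx p) _ (pow_mem hy p), ← pow_mul,
        ← pow_mul]
  -- the central subgroup of `p`-th powers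
  have hpc : ∀ w ∈ R, ∀ z ∈ R, z * w ^ p = w ^ p * z := by
    intro w hw z hz
    have hd := hcomm z hz w hw
    have h1 : MulAut.conj z (w ^ p) = w ^ p := by
      rw [map_pow, MulAut.conj_apply, show z * w * z⁻¹ = (z * w * z⁻¹ * w⁻¹) * w by group,
        (hzc _ hd w hw).mul_pow, hzp _ hd, one_mul]
    exact mul_inv_eq_iff_eq_mul.mp h1
  let P : Subgroup G :=
    { carrier := {x | ∃ w ∈ R, w ^ p = x}
      one_mem' := ⟨1, one_mem R, one_pow p⟩
      mul_mem' := by
        rintro _ _ ⟨u, hu, rfl⟩ ⟨v, hv, rfl⟩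
        exact ⟨u * v, mul_mem hu hv, hpmul u hu v hv⟩
      inv_mem' := by
        rintro _ ⟨u, hu, rfl⟩
        exact ⟨u⁻¹, inv_mem hu, inv_pow u p⟩ }
  have hPR : P ≤ R := by rintro _ ⟨w, hw, rfl⟩; exact pow_mem hw p
  have hPc : ∀ z ∈ P, ∀ x ∈ R, x * z = z * x := by rintro _ ⟨w, hw, rfl⟩ x hx; exact hpc w hw x hx
  have hPdvd : ∀ x ∈ R, ∀ n : ℕ, p ∣ n → x ^ n ∈ P := by
    rintro x hx _ ⟨n, rfl⟩
    exact ⟨x ^ n, pow_mem hx n, by rw [← pow_mul, mul_comm]⟩
  -- the largest power with `c` in the image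
  obtain ⟨n₀, hn₀⟩ : ∃ n : ℕ, a₀ ^ n = c := by
    rw [← (isOfFinOrder_of_finite a₀).mem_powers_iff_mem_zpowers] at hc₀
    exact hc₀
  have hn₀p : p ∣ n₀ := by
    by_contra h
    obtain ⟨m, hm⟩ := hord a₀ ha₀ n₀ h
    refine hnab ?_
    rw [← hm, hn₀]
    exact ((show Commute c b₀ from (hcc b₀ hb₀).symm).pow_left m).eq
  have hc1 : c ≠ 1 := fun h => hpp.ne_one (by rw [← hco, h, orderOf_one])
  let S : ℕ → Prop := fun k => ∃ x ∈ R, x ^ p ^ k = c
  have hbound : ∀ k, S k → k ≤ Nat.card G := by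
    rintro k ⟨x, -, hx⟩
    by_contra h
    have h1 : orderOf x ∣ p ^ k := by
      obtain ⟨j, hj⟩ : ∃ j, orderOf x = p ^ j := by
        have : x ^ p ^ (k + 1) = 1 := by rw [pow_succ, pow_mul, hx, ← hco, pow_orderOf_eq_one]
        obtain ⟨j, -, hj⟩ := (Nat.dvd_prime_pow hpp).mp (orderOf_dvd_of_pow_eq_one this)
        exact ⟨j, hj⟩
      rw [hj]
      refine pow_dvd_pow p ?_
      have h2 : p ^ j ≤ Nat.card G := hj ▸ Nat.le_of_dvd Nat.card_pos (orderOf_dvd_natCard x)
      have h3 : j < p ^ j := Nat.lt_pow_self hpp.one_lt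
      omega
    exact hc1 (hx ▸ orderOf_dvd_iff_pow_eq_one.mp h1)
  have hS1 : S 1 := by
    obtain ⟨n, rfl⟩ := hn₀p
    exact ⟨a₀ ^ n, pow_mem ha₀ n, by rw [pow_one, ← pow_mul, mul_comm, hn₀]⟩
  set k := Nat.findGreatest S (Nat.card G) with hk
  obtain ⟨a, ha, hak⟩ : S k := Nat.findGreatest_spec (hbound 1 hS1) hS1
  have hk1 : 1 ≤ k := Nat.le_findGreatest (hbound 1 hS1) hS1
  have hmax : ∀ x ∈ R, x ^ p ^ (k + 1) ≠ c := fun x hx h => by
    have := Nat.le_findGreatest (P := S) (hbound _ ⟨x, hx, h⟩) ⟨x, hx, h⟩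
    omega
  have hca : c ∈ zpowers a := hak ▸ npow_mem_zpowers a _
  have hnorm : ∀ {u v : G}, u ∈ R → v ∈ R → c ∈ zpowers u →
      zpowers v ≤ normalizer (zpowers u : Set G) := by
    intro u v hu hv hcu
    have hconj : ∀ w ∈ R, ∀ z ∈ zpowers u, w * z * w⁻¹ ∈ zpowers u := by
      rintro w hw z ⟨i, rfl⟩
      show w * u ^ i * w⁻¹ ∈ zpowers u
      rw [← conj_zpow, show w * u * w⁻¹ = w * u * w⁻¹ * u⁻¹ * u by group]
      exact zpow_mem (mul_mem (zpowers_le.mpr hcu (hcomm w hw u hu)) (mem_zpowers u)) i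
    rw [zpowers_le, Subgroup.mem_normalizer_iff]
    refine fun z => ⟨hconj v hv z, fun hz => ?_⟩
    simpa [mul_assoc] using hconj v⁻¹ (inv_mem hv) _ hz
  -- a second generator
  obtain ⟨b', hb', hsup'⟩ : ∃ b ∈ R, zpowers a ⊔ zpowers b = R := by
    obtain ⟨i, j, hij⟩ := exists_pow_mul_pow (hnorm ha₀ hb₀ hc₀) hsup₀ ha
    by_cases hi : p ∣ i
    · by_cases hj : p ∣ j
      · exfalso
        obtain ⟨i, rfl⟩ := hi
        obtain ⟨j, rfl⟩ := hj
        refine hmax (a₀ ^ i * b₀ ^ j) (mul_mem (pow_mem ha₀ i) (pow_mem hb₀ j)) ?_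
        rw [pow_succ', pow_mul, hpmul _ (pow_mem ha₀ i) _ (pow_mem hb₀ j), ← pow_mul, ← pow_mul,
          mul_comm i p, mul_comm j p, ← hij, hak]
      · refine ⟨a₀, ha₀, le_antisymm (sup_le (zpowers_le.mpr ha) (zpowers_le.mpr ha₀)) ?_⟩
        obtain ⟨m, hm⟩ := hord b₀ hb₀ j hj
        refine hsup₀.ge.trans (sup_le le_sup_right (zpowers_le.mpr ?_))
        rw [← hm]
        refine pow_mem ?_ m
        rw [show b₀ ^ j = (a₀ ^ i)⁻¹ * a by rw [hij, inv_mul_cancel_left]]
        exact mul_mem (inv_mem (pow_mem (mem_sup_right (mem_zpowers a₀)) i))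
          (mem_sup_left (mem_zpowers a))
    · refine ⟨b₀, hb₀, le_antisymm (sup_le (zpowers_le.mpr ha) (zpowers_le.mpr hb₀)) ?_⟩
      obtain ⟨m, hm⟩ := hord a₀ ha₀ i hi
      refine hsup₀.ge.trans (sup_le (zpowers_le.mpr ?_) le_sup_right)
      rw [← hm]
      refine pow_mem ?_ m
      rw [show a₀ ^ i = a * (b₀ ^ j)⁻¹ by rw [hij, mul_inv_cancel_right]]
      exact mul_mem (mem_sup_left (mem_zpowers a))
        (inv_mem (pow_mem (mem_sup_right (mem_zpowers b₀)) j))
  -- normalise the second generator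
  obtain ⟨b, hb, hsup, hcase⟩ : ∃ b ∈ R, zpowers a ⊔ zpowers b = R ∧
      (b ^ p ^ k ∉ zpowers c ∨ b ^ p ^ k = 1) := by
    by_cases h : b' ^ p ^ k ∈ zpowers c
    · obtain ⟨t, ht⟩ := h
      have hat : (a ^ t)⁻¹ ∈ R := inv_mem (zpow_mem ha t)
      refine ⟨b' * (a ^ t)⁻¹, mul_mem hb' hat, ?_, Or.inr ?_⟩
      · refine le_antisymm (sup_le (zpowers_le.mpr ha) (zpowers_le.mpr (mul_mem hb' hat))) ?_
        refine hsup'.ge.trans (sup_le le_sup_left (zpowers_le.mpr ?_))
        have := mul_mem (mem_sup_right (S := zpowers a) (mem_zpowers (b' * (a ^ t)⁻¹)))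
          (zpow_mem (mem_sup_left (T := zpowers (b' * (a ^ t)⁻¹)) (mem_zpowers a)) t)
        rwa [inv_mul_cancel_right] at this
      · rw [hpk k b' hb' _ hat, inv_pow, ← zpow_natCast (a ^ t), ← zpow_mul, mul_comm, zpow_mul,
          zpow_natCast, hak, ← ht, mul_inv_cancel]
    · exact ⟨b', hb', hsup', Or.inl h⟩
  have hbn := hnorm ha hb hca
  set e := a * b * a⁻¹ * b⁻¹ with he
  have hec : e ∈ zpowers c := hcomm a ha b hb
  have hab : a * b ≠ b * a := fun h => hnab (commute_of_sup hsup h ha₀ hb₀)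
  have he1 : e ≠ 1 := fun h => hab (mul_inv_eq_iff_eq_mul.mp (mul_inv_eq_one.mp h))
  have heo : orderOf e = p := orderOf_eq_prime (hzp e hec) he1
  have hswap := mul_pow_swap (a := a) (b := b) (e := e) (by rw [he]; group)
    (hzc e hec a ha) (hzc e hec b hb)
  obtain ⟨w, hw⟩ : ∃ w : ℕ, c ^ w = e := by
    have := hec
    rw [← (isOfFinOrder_of_finite c).mem_powers_iff_mem_zpowers] at this
    exact this
  have hconjR : ∀ g ∈ A, ∀ x ∈ R, g * x * g⁻¹ ∈ R := fun g hg x hx =>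
    (Subgroup.mem_normalizer_iff.mp (hA hg) x).mp hx
  -- the exponent of the image of `b`
  have hl : ∀ g ∈ A, ∀ i j k' l : ℕ, g * a * g⁻¹ = a ^ i * b ^ j → g * b * g⁻¹ = a ^ k' * b ^ l →
      b ^ (j * p ^ k) = 1 → (p ∣ j ∨ p ∣ k') → ∃ m : ℕ, l = 1 + p * m := by
    intro g _ i j k' l hga hgb hj hjk
    have hgc : g * c * g⁻¹ = c ^ i := by
      rw [← hak, ← conj_pow, hga, hpk k _ (pow_mem ha i) _ (pow_mem hb j), ← pow_mul b, hj,
        mul_one, ← pow_mul, ← pow_mul, mul_comm]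
    have hge : g * e * g⁻¹ = e ^ i := by
      rw [← hw, ← conj_pow, hgc, ← pow_mul, ← pow_mul, mul_comm]
    have hXY : (a ^ i * b ^ j) * (a ^ k' * b ^ l) = e ^ (i * l) * ((a ^ k' * b ^ l) * (a ^ i * b ^ j)) := by
      rcases hjk with h | h
      · have hz := hPdvd b hb j h
        have h1 := hPc _ hz
        calc (a ^ i * b ^ j) * (a ^ k' * b ^ l) = a ^ i * (b ^ j * (a ^ k' * b ^ l)) := mul_assoc _ _ _
          _ = a ^ i * ((a ^ k' * b ^ l) * b ^ j) := by
            rw [h1 _ (mul_mem (pow_mem ha k') (pow_mem hb l))]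
          _ = a ^ k' * (a ^ i * b ^ l) * b ^ j := by
            simp only [← mul_assoc, ← pow_add, add_comm]
          _ = a ^ k' * e ^ (i * l) * (b ^ l * a ^ i * b ^ j) := by rw [hswap]; simp only [mul_assoc]
          _ = _ := by
            rw [← (((hzc e hec a ha).pow_left (i * l)).pow_right k').eq]; simp only [mul_assoc]
      · have hz := hPdvd a ha k' h
        have h1 := hPc _ hz
        calc (a ^ i * b ^ j) * (a ^ k' * b ^ l) = (a ^ i * b ^ j * a ^ k') * b ^ l := by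
              simp only [mul_assoc]
          _ = a ^ k' * (a ^ i * b ^ l) * b ^ j := by
            rw [h1 _ (mul_mem (pow_mem ha i) (pow_mem hb j))]
            simp only [mul_assoc, ← pow_add, add_comm]
          _ = a ^ k' * e ^ (i * l) * (b ^ l * a ^ i * b ^ j) := by rw [hswap]; simp only [mul_assoc]
          _ = _ := by
            rw [← (((hzc e hec a ha).pow_left (i * l)).pow_right k').eq]; simp only [mul_assoc]
    have hge2 : g * e * g⁻¹ = e ^ (i * l) := by
      have : g * e * g⁻¹ = (g * a * g⁻¹) * (g * b * g⁻¹) * (g * a * g⁻¹)⁻¹ * (g * b * g⁻¹)⁻¹ := by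
        rw [he]; group
      rw [this, hga, hgb, hXY]
      group
    have hi : ¬ p ∣ i := by
      intro h
      refine he1 ?_
      have h0 : e ^ i = 1 := by rw [← orderOf_dvd_iff_pow_eq_one, heo]; exact h
      rw [h0] at hge
      exact conj_eq_one_iff.mp hge
    have hmod : i * l ≡ i * 1 [MOD p] := by
      rw [mul_one, ← heo, ← pow_eq_pow_iff_modEq, ← hge2, hge]
    have hl1 : l ≡ 1 [MOD p] :=
      Nat.ModEq.cancel_left_of_coprime ((hpp.coprime_iff_not_dvd).mpr hi) hmod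
    have hl0 : 1 ≤ l := by
      rcases Nat.eq_zero_or_pos l with rfl | h
      · exact absurd (Nat.modEq_zero_iff_dvd.mp hl1.symm) (fun h => hpp.not_dvd_one h)
      · exact h
    obtain ⟨m, hm⟩ := (Nat.modEq_iff_dvd' hl0).mp hl1.symm
    exact ⟨m, by omega⟩
  -- an invariant subgroup with a fixed coset outside it
  obtain ⟨M, hPM, hMR, hMA, hMRn, hbM, hfix⟩ : ∃ M : Subgroup G, P ≤ M ∧ M ≤ R ∧
      A ≤ normalizer (M : Set G) ∧ R ≤ normalizer (M : Set G) ∧ b ∉ M ∧
      ∀ g ∈ A, g * b * g⁻¹ * b⁻¹ ∈ M := by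
    have hcP : c ∈ P := hPdvd a ha (p ^ k) (dvd_pow_self p (by omega)) |> (hak ▸ ·)
    have hRn : ∀ M : Subgroup G, P ≤ M → M ≤ R → R ≤ normalizer (M : Set G) := by
      intro M hPM hMR
      refine le_normalizer_iff.mpr fun x hx m hm => ?_
      rw [show x * m * x⁻¹ = x * m * x⁻¹ * m⁻¹ * m by group]
      exact mul_mem (hPM (zpowers_le.mpr hcP (hcomm x hx m (hMR hm)))) hm
    have hAP : ∀ g ∈ A, ∀ z ∈ P, g * z * g⁻¹ ∈ P := by
      rintro g hg _ ⟨u, hu, rfl⟩
      exact ⟨g * u * g⁻¹, hconjR g hg u hu, conj_pow⟩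
    rcases hcase with hnot | hone
    · have hM : zpowers a ⊔ P ≤ centralizer ({a} : Set G) :=
        sup_le (zpowers_le.mpr (mem_centralizer_singleton_iff.mpr rfl))
          fun z hz => mem_centralizer_singleton_iff.mpr (hPc z hz a ha).symm
      have hj : ∀ g ∈ A, ∀ i j : ℕ, g * a * g⁻¹ = a ^ i * b ^ j → p ∣ j ∧ b ^ (j * p ^ k) = 1 := by
        intro g hg i j hga
        have hgc : g * c * g⁻¹ ∈ zpowers c := by
          have hge : g * e * g⁻¹ ∈ zpowers c := by
            rw [he, show g * (a * b * a⁻¹ * b⁻¹) * g⁻¹ = (g * a * g⁻¹) * (g * b * g⁻¹) *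
              (g * a * g⁻¹)⁻¹ * (g * b * g⁻¹)⁻¹ by group]
            exact hcomm _ (hconjR g hg a ha) _ (hconjR g hg b hb)
          obtain ⟨t, ht⟩ : c ∈ zpowers e := by
            rw [Subgroup.eq_of_le_of_card_ge (zpowers_le.mpr hec)
              (by rw [Nat.card_zpowers, Nat.card_zpowers, heo, hco])]
            exact mem_zpowers c
          have h1 : g * c * g⁻¹ = (g * e * g⁻¹) ^ t := by
            rw [conj_zpow, show e ^ t = c from ht]
          rw [h1]
          exact zpow_mem hge t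
        have hbj : b ^ (j * p ^ k) ∈ zpowers c := by
          rw [← hak, ← conj_pow, hga, hpk k _ (pow_mem ha i) _ (pow_mem hb j), ← pow_mul, ← pow_mul,
            mul_comm i, pow_mul, hak] at hgc
          exact (mul_mem_cancel_left (pow_mem (mem_zpowers c) i)).mp hgc
        have hjp : p ∣ j := by
          by_contra h
          obtain ⟨m, hm⟩ := hord b hb j h
          refine hnot ?_
          rw [← hm]
          simp only [← pow_mul]
          rw [show j * m * p ^ k = j * p ^ k * m by ring, pow_mul]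
          exact pow_mem hbj m
        refine ⟨hjp, ?_⟩
        obtain ⟨j, rfl⟩ := hjp
        by_contra h
        have ho : orderOf (b ^ (p * j * p ^ k)) = p := orderOf_eq_prime (hzp _ hbj) h
        have : c ∈ zpowers (b ^ (p * j * p ^ k)) := by
          rw [Subgroup.eq_of_le_of_card_ge (zpowers_le.mpr hbj)
            (by rw [Nat.card_zpowers, Nat.card_zpowers, ho, hco])]
          exact mem_zpowers c
        rw [← (isOfFinOrder_of_finite _).mem_powers_iff_mem_zpowers] at this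
        obtain ⟨t, ht⟩ := this
        refine hmax ((b ^ j) ^ t) (pow_mem (pow_mem hb j) t) ?_
        rw [← ht]
        simp only [← pow_mul]
        congr 1
        ring
      have hMA : A ≤ normalizer ((zpowers a ⊔ P : Subgroup G) : Set G) := by
        refine le_normalizer_iff.mpr fun g hg m hm => ?_
        have hle : zpowers a ⊔ P ≤ (zpowers a ⊔ P).comap (MulAut.conj g).toMonoidHom := by
          refine sup_le (zpowers_le.mpr ?_) fun z hz => mem_sup_right (hAP g hg z hz)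
          obtain ⟨i, j, hij⟩ := exists_pow_mul_pow hbn hsup (hconjR g hg a ha)
          show MulAut.conj g a ∈ zpowers a ⊔ P
          rw [MulAut.conj_apply, hij]
          exact mul_mem (mem_sup_left (npow_mem_zpowers a i))
            (mem_sup_right (hPdvd b hb j (hj g hg i j hij).1))
        exact hle hm
      refine ⟨zpowers a ⊔ P, le_sup_right, sup_le (zpowers_le.mpr ha) hPR, hMA,
        hRn _ le_sup_right (sup_le (zpowers_le.mpr ha) hPR),
        fun h => hab (mem_centralizer_singleton_iff.mp (hM h)).symm, fun g hg => ?_⟩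
      obtain ⟨i, j, hga⟩ := exists_pow_mul_pow hbn hsup (hconjR g hg a ha)
      obtain ⟨k', l, hgb⟩ := exists_pow_mul_pow hbn hsup (hconjR g hg b hb)
      obtain ⟨m, rfl⟩ := hl g hg i j k' l hga hgb (hj g hg i j hga).2 (Or.inl (hj g hg i j hga).1)
      rw [hgb, pow_add, pow_one, show a ^ k' * (b * b ^ (p * m)) * b⁻¹ = a ^ k' * b ^ (p * m) by
        rw [(Commute.self_pow b (p * m)).eq]; simp only [mul_assoc, mul_inv_cancel, mul_one]]
      exact mul_mem (mem_sup_left (npow_mem_zpowers a k'))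
        (mem_sup_right (hPdvd b hb _ (dvd_mul_right p m)))
    · refine ⟨P, le_rfl, hPR, le_normalizer_iff.mpr hAP, hRn P le_rfl hPR,
        fun h => hab (hPc b h a ha), fun g hg => ?_⟩
      obtain ⟨i, j, hga⟩ := exists_pow_mul_pow hbn hsup (hconjR g hg a ha)
      obtain ⟨k', l, hgb⟩ := exists_pow_mul_pow hbn hsup (hconjR g hg b hb)
      have hk' : p ∣ k' := by
        have h1 : (g * b * g⁻¹) ^ p ^ k = 1 := by rw [conj_pow, hone, mul_one, mul_inv_cancel]
        rw [hgb, hpk k _ (pow_mem ha k') _ (pow_mem hb l), ← pow_mul a, mul_comm k', pow_mul, hak,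
          ← pow_mul, mul_comm l, pow_mul, hone, one_pow, mul_one] at h1
        exact hco ▸ orderOf_dvd_of_pow_eq_one h1
      obtain ⟨m, rfl⟩ := hl g hg i j k' l hga hgb
        (by rw [mul_comm, pow_mul, hone, one_pow]) (Or.inr hk')
      rw [hgb, pow_add, pow_one, show a ^ k' * (b * b ^ (p * m)) * b⁻¹ = a ^ k' * b ^ (p * m) by
        rw [(Commute.self_pow b (p * m)).eq]; simp only [mul_assoc, mul_inv_cancel, mul_one]]
      exact mul_mem (hPdvd a ha k' hk') (hPdvd b hb _ (dvd_mul_right p m))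
  intro heq
  haveI := hR.isNilpotent
  obtain ⟨d, hd, hbd⟩ := CfsgLib.Solvable.exists_fixed_of_fixed_mod hA hcop
    (Or.inr inferInstance) hMR hMRn hMA hb hfix
  have hcP : c ∈ P := hPdvd a ha (p ^ k) (dvd_pow_self p (by omega)) |> (hak ▸ ·)
  have hdM : d ∈ M := le_of_commutator_eq hA hcop hMRn hMA
    (fun x hx y hy => hPM (zpowers_le.mpr hcP (hcomm x hx y hy))) heq hd
  exact hbM (inv_inv b ▸ inv_mem (mul_inv_cancel_right b⁻¹ d ▸ mul_mem hbd (inv_mem hdM)))

/-- A coprime group of operators never acts without fixed points on the commutator quotient of a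
non-abelian metacyclic `p`-group, `p` odd: `[R, A]` is proper. -/
theorem commutator_ne_self (hp2 : p ≠ 2) {R A : Subgroup G} (hR : IsPGroup p R)
    (hm : Cfsg.IsMetacyclic R) (hA : A ≤ normalizer (R : Set G))
    (hcop : (Nat.card A).Coprime p) (hnab : ¬ IsMulCommutative R) : ⁅R, A⁆ ≠ R := by
  have hpp : p.Prime := hp.out
  obtain ⟨N, hN, hNc, hQc⟩ := hm
  haveI := hN
  obtain ⟨⟨a, haN⟩, ha⟩ := (Subgroup.isCyclic_iff_exists_zpowers_eq_top N).mp hNc |>
    (fun ⟨g, hg⟩ => (⟨⟨g, hg ▸ mem_zpowers g⟩, hg⟩ : ∃ g : N, zpowers (g : R) = N))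
  obtain ⟨bq, hbq⟩ := isCyclic_iff_exists_zpowers_eq_top.1 hQc
  obtain ⟨b, rfl⟩ := QuotientGroup.mk_surjective bq
  have hNcomm : ∀ x y : R, x * y * x⁻¹ * y⁻¹ ∈ N := fun x y => by
    haveI := hQc
    letI : CommGroup (R ⧸ N) := IsCyclic.commGroup
    rw [← QuotientGroup.eq_one_iff]
    simp [mul_comm]
  have hsup : zpowers (a : G) ⊔ zpowers (b : G) = R := by
    refine le_antisymm (sup_le (zpowers_le.mpr a.2) (zpowers_le.mpr b.2)) fun x hx => ?_
    obtain ⟨j, hj⟩ := Subgroup.mem_zpowers_iff.1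
      (show (QuotientGroup.mk (⟨x, hx⟩ : R) : R ⧸ N) ∈ zpowers (QuotientGroup.mk b) by
        rw [hbq]; exact mem_top _)
    rw [← QuotientGroup.mk_zpow, QuotientGroup.eq, ← ha] at hj
    obtain ⟨i, hi⟩ := hj
    have hx' : (b : G) ^ j * (a : G) ^ i = x := by
      have h1 : (⟨x, hx⟩ : R) = b ^ j * a ^ i := by
        rw [show a ^ i = (b ^ j)⁻¹ * ⟨x, hx⟩ from hi, mul_inv_cancel_left]
      simpa using (congrArg Subtype.val h1).symm
    rw [← hx']
    exact mul_mem (zpow_mem (mem_sup_right (mem_zpowers _)) j)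
      (zpow_mem (mem_sup_left (mem_zpowers _)) i)
  set D : Subgroup G := ⁅R, R⁆ with hD
  have hDa : D ≤ zpowers (a : G) := by
    rw [hD, commutator_le]
    intro x hx y hy
    obtain ⟨i, hi⟩ : (⟨x, hx⟩ * ⟨y, hy⟩ * ⟨x, hx⟩⁻¹ * ⟨y, hy⟩⁻¹ : R) ∈ zpowers (a : R) :=
      ha ▸ hNcomm _ _
    exact ⟨i, by simpa [commutatorElement_def] using congrArg Subtype.val hi⟩
  obtain ⟨g, hgen⟩ : ∃ g : G, D = zpowers g := by
    haveI : IsCyclic D := Subgroup.isCyclic_of_le hDa
    obtain ⟨g, hg⟩ := (Subgroup.isCyclic_iff_exists_zpowers_eq_top D).mp inferInstance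
    exact ⟨g, hg.symm⟩
  set T := zpowers (g ^ p) with hT
  have hgR : g ∈ R := commutator_le_self R (hgen.ge (mem_zpowers g))
  obtain ⟨ng, hng⟩ : ∃ n, orderOf g = p ^ n := by
    obtain ⟨n, hn⟩ := hR ⟨g, hgR⟩
    obtain ⟨i, -, hi⟩ := (Nat.dvd_prime_pow hpp).mp
      (orderOf_dvd_of_pow_eq_one (congrArg Subtype.val hn : g ^ p ^ n = 1))
    exact ⟨i, hi⟩
  have hnab' : ∃ x ∈ R, ∃ y ∈ R, x * y * x⁻¹ * y⁻¹ ≠ 1 := by
    by_contra h
    push Not at h
    exact hnab (IsMulCommutative.of_setLike_mul_comm fun x hx y hy =>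
      mul_inv_eq_iff_eq_mul.mp (mul_inv_eq_one.mp (h x hx y hy)))
  have hgT : g ∉ T := by
    intro h
    obtain ⟨x, hx, y, hy, hxy⟩ := hnab'
    have hcard : orderOf g ∣ orderOf (g ^ p) := by
      rw [← Nat.card_zpowers (g ^ p)]
      exact Subgroup.orderOf_dvd_natCard _ h
    rcases Nat.eq_zero_or_pos ng with h0 | h0
    · rw [h0, pow_zero, orderOf_eq_one_iff] at hng
      have : x * y * x⁻¹ * y⁻¹ ∈ zpowers g := hgen ▸ commutator_mem_commutator hx hy
      rw [hng, zpowers_one_eq_bot, mem_bot] at this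
      exact hxy this
    · rw [orderOf_pow, hng, Nat.gcd_eq_right (dvd_pow_self p h0.ne')] at hcard
      obtain ⟨t, rfl⟩ : ∃ t, ng = t + 1 := ⟨ng - 1, by omega⟩
      rw [pow_succ, Nat.mul_div_cancel _ hpp.pos] at hcard
      have := Nat.le_of_dvd (pow_pos hpp.pos t) hcard
      nlinarith [hpp.two_le, pow_pos hpp.pos t]
  -- `R` and `A` normalise `T`, and `R` centralises `D` modulo `T`
  have hDn : R ⊔ A ≤ normalizer (D : Set G) :=
    sup_le (CfsgLib.Solvable.le_normalizer_commutator_left R R) (by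
      refine le_normalizer_iff.mpr fun x hx m hm => ?_
      have : D.map (MulAut.conj x).toMonoidHom = D := by
        have hAR : R.map (MulAut.conj x).toMonoidHom = R :=
          Subgroup.eq_of_le_of_card_ge (by
            rintro _ ⟨r, hr, rfl⟩
            exact le_normalizer_iff.mp hA x hx r hr)
            (Subgroup.card_map_of_injective (MulAut.conj x).injective).ge
        rw [hD, Subgroup.map_commutator, hAR]
      exact this.le (mem_map_of_mem _ hm))
  have hTn : R ⊔ A ≤ normalizer (T : Set G) := by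
    refine le_normalizer_iff.mpr fun x hx m hm => ?_
    obtain ⟨i, rfl⟩ := hm
    obtain ⟨t, ht⟩ := hgen.le (le_normalizer_iff.mp hDn x hx g (hgen.ge (mem_zpowers g)))
    show x * (g ^ p) ^ i * x⁻¹ ∈ T
    rw [← conj_zpow, ← conj_pow, ← show g ^ t = x * g * x⁻¹ from ht]
    refine zpow_mem ?_ i
    rw [hT, ← zpow_natCast (g ^ t), ← zpow_mul, mul_comm, zpow_mul, zpow_natCast]
    exact zpow_mem (mem_zpowers _) t
  have hcent : ∀ x ∈ R, x * g * x⁻¹ * g⁻¹ ∈ T := by
    intro x hx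
    obtain ⟨m, hm⟩ : ∃ m : ℕ, g ^ m = x * g * x⁻¹ := by
      have := hgen.le (le_normalizer_iff.mp hDn x (mem_sup_left hx) g (hgen.ge (mem_zpowers g)))
      rw [← (isOfFinOrder_of_finite g).mem_powers_iff_mem_zpowers] at this
      exact this
    have hiter : ∀ i : ℕ, x ^ i * g * (x ^ i)⁻¹ = g ^ m ^ i := by
      intro i
      induction i with
      | zero => simp
      | succ i ih =>
        rw [pow_succ', mul_inv_rev, show x * x ^ i * g * ((x ^ i)⁻¹ * x⁻¹) =
          x * (x ^ i * g * (x ^ i)⁻¹) * x⁻¹ by group, ih, ← conj_pow, ← hm, ← pow_mul, pow_succ']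
    obtain ⟨n, hn⟩ := hR ⟨x, hx⟩
    have h1 := hiter (p ^ n)
    rw [show x ^ p ^ n = 1 from congrArg Subtype.val hn] at h1
    have h2 : g ^ m ^ p ^ n = g ^ 1 := by rw [← h1]; simp
    rw [pow_eq_pow_iff_modEq, hng] at h2
    rcases Nat.eq_zero_or_pos ng with h0 | h0
    · rw [h0, pow_zero, orderOf_eq_one_iff] at hng
      simp [hng, one_mem]
    · have h3 := h2.of_dvd (dvd_pow_self p h0.ne')
      rw [← ZMod.natCast_eq_natCast_iff, Nat.cast_pow, ZMod.pow_card_pow, Nat.cast_one] at h3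
      have hm1 : (p : ℤ) ∣ (m : ℤ) - 1 := by
        rw [← ZMod.intCast_zmod_eq_zero_iff_dvd]
        push_cast
        rw [h3, sub_self]
      obtain ⟨t, ht⟩ := hm1
      rw [← hm, show g ^ m * g⁻¹ = g ^ ((m : ℤ) - 1) by
        rw [zpow_sub, zpow_natCast, zpow_one], ht, zpow_mul, zpow_natCast, hT]
      exact zpow_mem (mem_zpowers _) t
  -- pass to the quotient
  intro heq
  set L : Subgroup G := R ⊔ A with hL
  haveI hn' : (T.subgroupOf L).Normal := normal_subgroupOf_of_le_normalizer hTn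
  set π := QuotientGroup.mk' (T.subgroupOf L) with hπ
  have hcop' : (Nat.card A).Coprime (Nat.card R) := by
    obtain ⟨n, hn⟩ := hR.exists_card_eq
    rw [hn]
    exact Nat.Coprime.pow_right n hcop
  have hgL : g ∈ L := mem_sup_left hgR
  have haL : (a : G) ∈ L := mem_sup_left (a : R).2
  have hbL : (b : G) ∈ L := mem_sup_left b.2
  have hone : ∀ y : L, (y : G) ∈ T → π y = 1 := fun y hy => (QuotientGroup.eq_one_iff y).mpr hy
  have hone' : ∀ y : L, π y = 1 → (y : G) ∈ T := fun y hy => (QuotientGroup.eq_one_iff y).mp hy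
  refine commutator_ne_self_aux (G := L ⧸ T.subgroupOf L) hp2
    (R := (R.subgroupOf L).map π) (A := (A.subgroupOf L).map π)
    (c := π ⟨g, hgL⟩) (a₀ := π ⟨a, haL⟩) (b₀ := π ⟨b, hbL⟩)
    ((hR.of_equiv (subgroupOfEquivOfLe (le_sup_left : R ≤ L)).symm).map π) ?_ ?_ ?_ ?_ ?_ ?_ ?_ ?_ ?_
  · refine le_trans (Subgroup.map_mono ?_) (le_normalizer_map π)
    intro x hx
    rw [Subgroup.mem_normalizer_iff]
    exact fun z => (Subgroup.mem_normalizer_iff.mp (hA (Subgroup.mem_subgroupOf.mp hx))) (z : G)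
  · refine Nat.Coprime.coprime_dvd_left ?_ (hcop'.coprime_dvd_right ?_)
    · exact (Subgroup.card_map_dvd _ _).trans
        (Nat.card_congr (subgroupOfEquivOfLe (le_sup_right : A ≤ L)).toEquiv).dvd
    · exact (Subgroup.card_map_dvd _ _).trans
        (Nat.card_congr (subgroupOfEquivOfLe (le_sup_left : R ≤ L)).toEquiv).dvd
  · refine orderOf_eq_prime ?_ fun h => hgT (hone' _ h)
    rw [← map_pow]
    exact hone _ (by rw [Subgroup.coe_pow]; exact mem_zpowers _)
  · rintro _ ⟨x, hx, rfl⟩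
    rw [← map_mul, ← map_mul]
    refine QuotientGroup.eq.mpr ?_
    rw [Subgroup.mem_subgroupOf]
    have := hcent (x : G)⁻¹ (inv_mem (Subgroup.mem_subgroupOf.mp hx))
    push_cast
    have h2 : g⁻¹ * ((x : G)⁻¹ * g * (x : G) * g⁻¹) * g ∈ T := by
      have h3 := le_normalizer_iff.mp hTn g⁻¹ (inv_mem hgL) _
        (by simpa [mul_assoc] using this : (x : G)⁻¹ * g * (x : G) * g⁻¹ ∈ T)
      simpa using h3
    simpa [mul_assoc] using h2
  · rintro _ ⟨x, hx, rfl⟩ _ ⟨y, hy, rfl⟩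
    have hxy : (x : G) * y * (x : G)⁻¹ * (y : G)⁻¹ ∈ zpowers g := hgen ▸
      commutator_mem_commutator (Subgroup.mem_subgroupOf.mp hx) (Subgroup.mem_subgroupOf.mp hy)
    obtain ⟨i, hi⟩ := hxy
    refine ⟨i, ?_⟩
    simp only [← map_mul, ← map_inv, ← map_zpow]
    exact congrArg π (Subtype.ext (by push_cast; exact hi))
  · obtain ⟨i, hi⟩ := hDa (hgen.ge (mem_zpowers g))
    exact ⟨i, by simp only [← map_zpow]; exact congrArg π (Subtype.ext (by push_cast; exact hi))⟩
  · rw [← MonoidHom.map_zpowers, ← MonoidHom.map_zpowers, ← Subgroup.map_sup]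
    congr 1
    refine map_injective L.subtype_injective ?_
    rw [Subgroup.map_sup, MonoidHom.map_zpowers, MonoidHom.map_zpowers, subgroupOf_map_subtype,
      inf_eq_left.mpr le_sup_left]
    exact hsup
  · intro h
    obtain ⟨x, hx, y, hy, hxy⟩ := hnab'
    -- all commutators would lie in `T`
    have hRc : ∀ u ∈ (R.subgroupOf L).map π, ∀ v ∈ (R.subgroupOf L).map π, u * v = v * u :=
      fun u hu v hv => commute_of_sup (R := (R.subgroupOf L).map π) (by
        rw [← MonoidHom.map_zpowers, ← MonoidHom.map_zpowers, ← Subgroup.map_sup]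
        congr 1
        refine map_injective L.subtype_injective ?_
        rw [Subgroup.map_sup, MonoidHom.map_zpowers, MonoidHom.map_zpowers, subgroupOf_map_subtype,
          inf_eq_left.mpr le_sup_left]
        exact hsup) h hu hv
    have hle : D ≤ T := by
      rw [hD, commutator_le]
      intro u hu v hv
      refine hone' (⁅(⟨u, mem_sup_left hu⟩ : L), ⟨v, mem_sup_left hv⟩⁆) ?_
      rw [map_commutatorElement, commutatorElement_eq_one_iff_mul_comm]
      exact hRc _ ⟨_, hu, rfl⟩ _ ⟨_, hv, rfl⟩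
    exact hgT (hle (hgen.ge (mem_zpowers g)))
  · rw [← Subgroup.map_commutator]
    congr 1
    refine map_injective L.subtype_injective ?_
    rw [Subgroup.map_commutator, subgroupOf_map_subtype, subgroupOf_map_subtype,
      inf_eq_left.mpr le_sup_left, inf_eq_left.mpr le_sup_right, heq]

theorem isMetacyclic_of_le {R K : Subgroup G} (hKR : K ≤ R) (hm : Cfsg.IsMetacyclic R) :
    Cfsg.IsMetacyclic K :=
  CfsgLib.FGStruct.MetacyclicAut.isMetacyclic_of_injective (Subgroup.inclusion hKR)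
    (Subgroup.inclusion_injective hKR) hm

/-- A noncyclic subgroup of a metacyclic `p`-group, `p` odd, contains all elements of order `p`. -/
theorem mem_of_not_isCyclic (hp2 : p ≠ 2) {R K : Subgroup G} (hR : IsPGroup p R)
    (hm : Cfsg.IsMetacyclic R) (hKR : K ≤ R) (hK : ¬ IsCyclic K) {x : G} (hx : x ∈ R)
    (hxp : x ^ p = 1) : x ∈ K := by
  obtain ⟨U, hUc, hU⟩ := CfsgLib.PGroup.metacyclic_omegaOne hp2 (hR.to_le hKR)
    (isMetacyclic_of_le hKR hm) hK
  obtain ⟨W, hWc, hW⟩ := CfsgLib.PGroup.metacyclic_omegaOne hp2 hR hm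
    (fun h => hK (Subgroup.isCyclic_of_le hKR))
  have hle : U.map K.subtype ≤ W.map R.subtype := by
    rintro _ ⟨u, hu, rfl⟩
    exact ⟨⟨u, hKR u.2⟩, (hW _).mpr (Subtype.ext (congrArg Subtype.val ((hU u).mp hu) :)), rfl⟩
  have heq := Subgroup.eq_of_le_of_card_ge hle (by
    rw [Subgroup.card_map_of_injective R.subtype_injective,
      Subgroup.card_map_of_injective K.subtype_injective, hUc, hWc])
  have hxW : x ∈ W.map R.subtype := ⟨⟨x, hx⟩, (hW _).mpr (Subtype.ext hxp), rfl⟩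
  exact Subgroup.map_subtype_le U (heq.ge hxW)

/-- Coprime action on a metacyclic `p`-group, `p` odd. -/
theorem coprime_action (hp2 : p ≠ 2) {R A : Subgroup G} (hR : IsPGroup p R)
    (hm : Cfsg.IsMetacyclic R) (hA : A ≤ normalizer (R : Set G))
    (hcop : (Nat.card A).Coprime p) :
    IsMulCommutative ↥⁅R, A⁆ ∧ ⁅R, A⁆ ⊔ (R ⊓ centralizer (A : Set G)) = R ∧
      ⁅R, A⁆ ⊓ (R ⊓ centralizer (A : Set G)) = ⊥ ∧
      (¬ IsMulCommutative R → ¬ A ≤ centralizer (R : Set G) →
        ⁅R, A⁆ ≠ ⊥ ∧ IsCyclic ↥⁅R, A⁆ ∧ (R ⊓ centralizer (A : Set G)) ≠ ⊥ ∧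
          IsCyclic ↥(R ⊓ centralizer (A : Set G)) ∧ ⁅R, R⁆ ≤ ⁅R, A⁆) := by
  have hpp : p.Prime := hp.out
  haveI := hR.isNilpotent
  have hcop' : (Nat.card A).Coprime (Nat.card R) := by
    obtain ⟨n, hn⟩ := hR.exists_card_eq
    rw [hn]
    exact Nat.Coprime.pow_right n hcop
  set D := ⁅R, A⁆ with hD
  set C := R ⊓ centralizer (A : Set G) with hC
  have hDR : D ≤ R := CfsgLib.Solvable.commutator_le_of_normalizes hA
  have hDA : A ≤ normalizer (D : Set G) := CfsgLib.Solvable.le_normalizer_commutator_right R A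
  have hRD : R ≤ normalizer (D : Set G) := CfsgLib.Solvable.le_normalizer_commutator_left R A
  have hsup : D ⊔ C = R :=
    CfsgLib.Solvable.commutator_sup_centralizer hA hcop' (Or.inr inferInstance)
  have hDD : ⁅D, A⁆ = D :=
    CfsgLib.Solvable.commutator_commutator_eq hA hcop' (Or.inr inferInstance)
  have hDab : IsMulCommutative D := by
    by_contra h
    exact commutator_ne_self hp2 (hR.to_le hDR) (isMetacyclic_of_le hDR hm) hDA hcop h hDD
  have hcopD : (Nat.card A).Coprime (Nat.card D) :=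
    hcop'.coprime_dvd_right (Subgroup.card_dvd_of_le hDR)
  haveI := hDab
  have hbot : D ⊓ C = ⊥ := by
    rw [eq_bot_iff]
    rintro x hx
    obtain ⟨hxD, hxC⟩ := Subgroup.mem_inf.mp hx
    have h := CfsgLib.Solvable.centralizer_inf_commutator_eq_bot hDA hcopD
    rw [hDD] at h
    rw [← h]
    exact Subgroup.mem_inf.mpr ⟨Subgroup.mem_inf.mpr ⟨hxD, (Subgroup.mem_inf.mp hxC).2⟩, hxD⟩
  refine ⟨hDab, hsup, hbot, fun hnab hnc => ?_⟩
  have hCR : C ≤ R := inf_le_left
  have hD1 : D ≠ ⊥ := fun h => hnc fun x hx r hr => by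
    have : r ∈ C := by rw [← hsup, h, bot_sup_eq] at hr; exact hr
    exact ((Subgroup.mem_inf.mp this).2 x hx).symm
  have hC1 : C ≠ ⊥ := fun h => hnab (by
    rw [← hsup, h, sup_bot_eq]
    exact hDab)
  have hord : ∀ K : Subgroup G, K ≤ R → K ≠ ⊥ → ∃ x ∈ K, x ≠ 1 ∧ x ^ p = 1 := by
    intro K hK hK1
    haveI : Nontrivial K := (Subgroup.nontrivial_iff_ne_bot K).mpr hK1
    obtain ⟨n, hn0, hn⟩ := (hR.to_le hK).nontrivial_iff_card.mp inferInstance
    obtain ⟨x, hx⟩ := exists_prime_orderOf_dvd_card' (G := K) p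
      (hn ▸ dvd_pow_self p (by omega))
    refine ⟨x, x.2, fun h => hpp.ne_one ?_, ?_⟩
    · rw [← hx, ← Subgroup.orderOf_coe, h, orderOf_one]
    · rw [← hx, ← Subgroup.coe_pow, pow_orderOf_eq_one, Subgroup.coe_one]
  obtain ⟨d, hd, hd1, hdp⟩ := hord D hDR hD1
  obtain ⟨c, hc, hc1, hcp⟩ := hord C hCR hC1
  have hnot : ∀ {x : G}, x ∈ D → x ∈ C → x = 1 := fun hxD hxC =>
    mem_bot.mp (hbot ▸ Subgroup.mem_inf.mpr ⟨hxD, hxC⟩)
  have hCcyc : IsCyclic C := by
    by_contra h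
    exact hd1 (hnot hd (mem_of_not_isCyclic hp2 hR hm hCR h (hDR hd) hdp))
  have hDcyc : IsCyclic D := by
    by_contra h
    exact hc1 (hnot (mem_of_not_isCyclic hp2 hR hm hDR h (hCR hc) hcp) hc)
  refine ⟨hD1, hDcyc, hC1, hCcyc, ?_⟩
  rw [commutator_le]
  intro x hx y hy
  rw [← hsup] at hx hy
  have hn : C ≤ normalizer (D : Set G) := hCR.trans hRD
  obtain ⟨u, hu, s, hs, rfl⟩ := (CfsgLib.Solvable.mem_sup_of_le_normalizer hn).mp hx
  obtain ⟨v, hv, t, ht, rfl⟩ := (CfsgLib.Solvable.mem_sup_of_le_normalizer hn).mp hy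
  haveI := hCcyc
  letI : CommGroup C := IsCyclic.commGroup
  have hst : s * t = t * s := congrArg Subtype.val (mul_comm (⟨s, hs⟩ : C) ⟨t, ht⟩)
  have hconj : ∀ {z w : G}, z ∈ C → w ∈ D → z * w * z⁻¹ ∈ D := fun hz hw =>
    le_normalizer_iff.mp hn _ hz _ hw
  rw [commutatorElement_def, show u * s * (v * t) * (u * s)⁻¹ * (v * t)⁻¹ =
    u * (s * v * s⁻¹) * ((s * t * s⁻¹) * u⁻¹ * (s * t * s⁻¹)⁻¹) * ((s * t * s⁻¹ * t⁻¹) * v⁻¹) by group]
  refine mul_mem (mul_mem (mul_mem hu (hconj hs hv))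
    (hconj (mul_mem (mul_mem hs ht) (inv_mem hs)) (inv_mem hu))) ?_
  rw [show s * t * s⁻¹ * t⁻¹ = 1 by rw [hst]; group, one_mul]
  exact inv_mem hv

end CfsgLib.Metacyclic
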