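import Mathlib

/-!
Geometric sums `1 + u + ⋯ + u^(j-1)` modulo powers of an odd prime `p`, for `u ≡ 1 (mod p)`.
-/

namespace CfsgLib.Metacyclic

/-- `1 + u + ⋯ + u^(j-1)`. -/
def geomS (u j : ℕ) : ℕ := ∑ i ∈ Finset.range j, u ^ i

theorem geomS_zero (u : ℕ) : geomS u 0 = 0 := by simp [geomS]

theorem geomS_one (u : ℕ) : geomS u 1 = 1 := by simp [geomS]

theorem geomS_succ (u j : ℕ) : geomS u (j + 1) = geomS u j + u ^ j := by
  simp [geomS, Finset.sum_range_succ]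

theorem geomS_add (u j l : ℕ) : geomS u (j + l) = geomS u j + u ^ j * geomS u l := by
  simp [geomS, Finset.sum_range_add, Finset.mul_sum, pow_add]

theorem geomS_mul (u j k : ℕ) : geomS u (j * k) = geomS u j * geomS (u ^ j) k := by
  induction k with
  | zero => simp [geomS]
  | succ k ih =>
    rw [Nat.mul_succ, geomS_add, ih, geomS_succ, ← pow_mul]
    ring

theorem pow_eq_one_add_mul_geomS (x j : ℕ) : (x + 1) ^ j = x * geomS (x + 1) j + 1 := by
  rw [geomS, mul_comm]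
  exact (geom_sum_mul_add x j).symm

section ZMod
variable {R : Type*} [CommSemiring R]

theorem cast_geomS (u j : ℕ) : ((geomS u j : ℕ) : R) = ∑ i ∈ Finset.range j, (u : R) ^ i := by
  simp [geomS]

end ZMod

variable {p u : ℕ}

theorem geomS_modEq (hu : u ≡ 1 [MOD p]) (j : ℕ) : geomS u j ≡ j [MOD p] := by
  induction j with
  | zero => simp [geomS_zero, Nat.ModEq]
  | succ j ih =>
    rw [geomS_succ]
    simpa using ih.add ((hu.pow j).trans (by simp [Nat.ModEq]))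

theorem pow_not_dvd (hp : p.Prime) (hu : u ≡ 1 [MOD p]) : ¬ p ∣ u := by
  intro h
  have h2 : (1 : ℕ) ≡ 0 [MOD p] := hu.symm.trans (Nat.modEq_zero_iff_dvd.mpr h)
  exact hp.not_dvd_one (Nat.modEq_zero_iff_dvd.mp h2)

theorem geomS_prime (hp : p.Prime) (hodd : Odd p) (hu : u ≡ 1 [MOD p]) :
    ∃ c, geomS u p = p * c ∧ ¬ p ∣ c := by
  obtain ⟨c, hc⟩ : p ∣ geomS u p :=
    Nat.modEq_zero_iff_dvd.mp ((geomS_modEq hu p).trans (Nat.modEq_zero_iff_dvd.mpr dvd_rfl))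
  refine ⟨c, hc, fun hdvd => ?_⟩
  obtain ⟨b, hb⟩ : (p : ℤ) ∣ (u : ℤ) - 1 := by
    simpa using (Nat.modEq_iff_dvd.mp hu.symm)
  have h := odd_sq_dvd_geom_sum₂_sub (R := ℤ) (a := 1) (b := b) hodd
  have hub : (1 : ℤ) + p * b = u := by linarith
  rw [hub] at h
  simp only [one_pow, mul_one] at h
  have hsum : (∑ i ∈ Finset.range p, (u : ℤ) ^ i) = ((p * c : ℕ) : ℤ) := by
    rw [← hc]; push_cast [geomS]; rfl
  rw [hsum] at h
  obtain ⟨d, rfl⟩ := hdvd
  have h2 : (p : ℤ) ^ 2 ∣ (p : ℤ) := by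
    have h3 : (p : ℤ) ^ 2 ∣ ((p * (p * d) : ℕ) : ℤ) := ⟨d, by push_cast; ring⟩
    have h4 := dvd_sub h3 h
    simpa using h4
  have h5 : p ^ 2 ∣ p := by exact_mod_cast h2
  have h6 : p ^ 2 ≤ p := Nat.le_of_dvd hp.pos h5
  nlinarith [hp.two_le]

theorem pow_dvd_geomS_iff (hp : p.Prime) (hodd : Odd p) {u : ℕ} (hu : u ≡ 1 [MOD p]) (e j : ℕ) :
    p ^ e ∣ geomS u j ↔ p ^ e ∣ j := by
  induction e generalizing u j with
  | zero => simp
  | succ e ih =>
    have hdiv : p ∣ geomS u j ↔ p ∣ j := by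
      simp only [← Nat.modEq_zero_iff_dvd]
      exact ⟨fun h => (geomS_modEq hu j).symm.trans h, fun h => (geomS_modEq hu j).trans h⟩
    by_cases hj : p ∣ j
    · obtain ⟨k, rfl⟩ := hj
      obtain ⟨c, hc, hcp⟩ := geomS_prime hp hodd hu
      rw [geomS_mul, hc, pow_succ', mul_assoc, Nat.mul_dvd_mul_iff_left hp.pos,
        Nat.mul_dvd_mul_iff_left hp.pos]
      rw [(Nat.Coprime.pow_left e ((Nat.Prime.coprime_iff_not_dvd hp).mpr hcp)).dvd_mul_left]
      exact ih (by simpa using hu.pow p) k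
    · constructor
      · intro h
        exact absurd (hdiv.mp ((dvd_pow_self p (Nat.succ_ne_zero e)).trans h)) hj
      · intro h
        exact absurd ((dvd_pow_self p (Nat.succ_ne_zero e)).trans h) hj

theorem geomS_cast_eq_iff (hp : p.Prime) (hodd : Odd p) (hu : u ≡ 1 [MOD p]) (e j l : ℕ) :
    ((geomS u j : ℕ) : ZMod (p ^ e)) = (geomS u l : ℕ) ↔ (j : ZMod (p ^ e)) = (l : ℕ) := by
  wlog hle : j ≤ l generalizing j l with H
  · rw [eq_comm, H l j (le_of_not_ge hle), eq_comm]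
  obtain ⟨d, rfl⟩ := Nat.exists_eq_add_of_le hle
  rw [geomS_add]
  push_cast
  simp only [left_eq_add]
  rw [← Nat.cast_pow, ← Nat.cast_mul, ZMod.natCast_eq_zero_iff, ZMod.natCast_eq_zero_iff,
    (Nat.Coprime.pow e j ((Nat.Prime.coprime_iff_not_dvd hp).mpr (pow_not_dvd hp hu))).dvd_mul_left]
  exact pow_dvd_geomS_iff hp hodd hu e d

theorem geomS_surjective (hp : p.Prime) (hodd : Odd p) (hu : u ≡ 1 [MOD p]) (e : ℕ)
    (y : ZMod (p ^ e)) : ∃ j, ((geomS u j : ℕ) : ZMod (p ^ e)) = y := by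
  haveI : NeZero (p ^ e) := ⟨pow_ne_zero _ hp.ne_zero⟩
  let f : ZMod (p ^ e) → ZMod (p ^ e) := fun z => (geomS u z.val : ℕ)
  have hf : Function.Injective f := by
    intro a b h
    have h2 := (geomS_cast_eq_iff hp hodd hu e a.val b.val).mp h
    simpa using h2
  obtain ⟨z, hz⟩ := Finite.surjective_of_injective hf y
  exact ⟨z.val, hz⟩

theorem exists_geomS_factor (hp : p.Prime) (hodd : Odd p) (hu : u ≡ 1 [MOD p]) (t : ℕ) :
    ∃ c, geomS u (p ^ t) = p ^ t * c ∧ ¬ p ∣ c := by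
  obtain ⟨c, hc⟩ := (pow_dvd_geomS_iff hp hodd hu t (p ^ t)).mpr dvd_rfl
  refine ⟨c, hc, ?_⟩
  rintro ⟨d, rfl⟩
  have h2 : p ^ (t + 1) ∣ geomS u (p ^ t) := ⟨d, by rw [hc, pow_succ]; ring⟩
  have h3 := (pow_dvd_geomS_iff hp hodd hu (t + 1) (p ^ t)).mp h2
  have h4 := (Nat.pow_dvd_pow_iff_le_right hp.one_lt).mp h3
  omega

end CfsgLib.Metacyclic
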