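import Mathlib

/-!
The determinant pairing on `(ZMod (p ^ n))²`: perps of submodules.
-/

namespace CfsgLib.Metacyclic

variable {p n : ℕ}

/-- The plane over `ZMod (p ^ n)`. -/
abbrev Plane (p n : ℕ) := ZMod (p ^ n) × ZMod (p ^ n)

/-- The determinant pairing. -/
def pdet (e f : Plane p n) : ZMod (p ^ n) := e.1 * f.2 - e.2 * f.1

theorem pdet_self (e : Plane p n) : pdet e e = 0 := by simp [pdet, mul_comm]

theorem pdet_swap (e f : Plane p n) : pdet e f = -pdet f e := by simp [pdet]; ring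

theorem pdet_add_right (e f g : Plane p n) : pdet e (f + g) = pdet e f + pdet e g := by
  simp [pdet]; ring

theorem pdet_smul_right (c : ZMod (p ^ n)) (e f : Plane p n) : pdet e (c • f) = c * pdet e f := by
  simp [pdet]; ring

theorem pdet_zero_right (e : Plane p n) : pdet e 0 = 0 := by simp [pdet]

/-- Orthogonal submodule for the determinant pairing. -/
def perp (M : Submodule (ZMod (p ^ n)) (Plane p n)) : Submodule (ZMod (p ^ n)) (Plane p n) where
  carrier := {f | ∀ e ∈ M, pdet e f = 0}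
  add_mem' {a b} ha hb e he := by rw [pdet_add_right, ha e he, hb e he, add_zero]
  zero_mem' e _ := pdet_zero_right e
  smul_mem' c f hf e he := by rw [pdet_smul_right, hf e he, mul_zero]

theorem mem_perp {M : Submodule (ZMod (p ^ n)) (Plane p n)} {f : Plane p n} :
    f ∈ perp M ↔ ∀ e ∈ M, pdet e f = 0 := Iff.rfl

theorem perp_bot : perp (⊥ : Submodule (ZMod (p ^ n)) (Plane p n)) = ⊤ := by
  ext f; simp [mem_perp, pdet]

theorem perp_top : perp (⊤ : Submodule (ZMod (p ^ n)) (Plane p n)) = ⊥ := by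
  ext f
  simp only [mem_perp, Submodule.mem_top, forall_true_left, Submodule.mem_bot]
  refine ⟨fun h => ?_, fun h e => by simp [h, pdet]⟩
  have h1 := h (1, 0)
  have h2 := h (0, 1)
  simp [pdet] at h1 h2
  exact Prod.ext h2 h1

theorem perp_antitone {M N : Submodule (ZMod (p ^ n)) (Plane p n)} (h : M ≤ N) : perp N ≤ perp M :=
  fun _ hf e he => hf e (h he)

theorem le_perp_perp (M : Submodule (ZMod (p ^ n)) (Plane p n)) : M ≤ perp (perp M) := by
  intro e he f hf
  rw [pdet_swap, hf e he, neg_zero]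

variable [Fact p.Prime]

theorem torsion_card (k : ℕ) (hk : k ≤ n) :
    Nat.card {x : ZMod (p ^ n) // (p : ZMod (p ^ n)) ^ k * x = 0} = p ^ k := by
  have : NeZero (p ^ n) := ⟨pow_ne_zero _ (Fact.out : p.Prime).ne_zero⟩
  have h := IsAddCyclic.card_nsmulAddMonoidHom_ker (ZMod (p ^ n)) (p ^ k)
  rw [Nat.card_zmod, Nat.gcd_eq_right (pow_dvd_pow p hk)] at h
  rw [← h]
  apply Nat.card_congr
  refine Equiv.subtypeEquivRight fun x => ?_
  simp

theorem plane_torsion_card (k : ℕ) (hk : k ≤ n) :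
    Nat.card {e : Plane p n // (p : ZMod (p ^ n)) ^ k • e = 0} = p ^ (2 * k) := by
  have e1 : {e : Plane p n // (p : ZMod (p ^ n)) ^ k • e = 0} ≃
      {x : ZMod (p ^ n) // (p : ZMod (p ^ n)) ^ k * x = 0} ×
      {x : ZMod (p ^ n) // (p : ZMod (p ^ n)) ^ k * x = 0} :=
    { toFun := fun e => (⟨e.1.1, (Prod.ext_iff.mp e.2).1⟩, ⟨e.1.2, (Prod.ext_iff.mp e.2).2⟩)
      invFun := fun x => ⟨(x.1.1, x.2.1), Prod.ext x.1.2 x.2.2⟩
      left_inv := fun e => rfl
      right_inv := fun x => rfl }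
  rw [Nat.card_congr e1, Nat.card_prod, torsion_card k hk, two_mul, pow_add]

omit [Fact p.Prime] in
/-- Between two submodules with `M < N` there is an element of `N \ M` whose `p`-multiple is in `M`. -/
theorem exists_step {M N : Submodule (ZMod (p ^ n)) (Plane p n)} (h : M < N) :
    ∃ f ∈ N, f ∉ M ∧ (p : ZMod (p ^ n)) • f ∈ M := by
  obtain ⟨f, hfN, hfM⟩ := SetLike.exists_of_lt h
  have hex : ∃ k, (p : ZMod (p ^ n)) ^ k • f ∈ M := by
    refine ⟨n, ?_⟩
    have : (p : ZMod (p ^ n)) ^ n = 0 := by exact_mod_cast ZMod.natCast_self (p ^ n)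
    simp [this]
  classical
  have h0 : Nat.find hex ≠ 0 := by
    intro h0
    have h2 := Nat.find_spec hex
    rw [h0, pow_zero, one_smul] at h2
    exact hfM h2
  obtain ⟨k, hk⟩ := Nat.exists_eq_succ_of_ne_zero h0
  refine ⟨(p : ZMod (p ^ n)) ^ k • f, N.smul_mem _ hfN, Nat.find_min hex (by omega), ?_⟩
  rw [smul_smul, ← pow_succ']
  have h2 := Nat.find_spec hex
  rwa [hk] at h2

theorem card_mul_card_perp_mono {M N : Submodule (ZMod (p ^ n)) (Plane p n)} (h : M ≤ N) :
    Nat.card M * Nat.card (perp M) ≤ Nat.card N * Nat.card (perp N) := by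
  have : NeZero (p ^ n) := ⟨pow_ne_zero _ (Fact.out : p.Prime).ne_zero⟩
  obtain ⟨d, hd⟩ : ∃ d, d = Nat.card N - Nat.card M := ⟨_, rfl⟩
  induction d using Nat.strong_induction_on generalizing M with
  | _ d ih =>
  rcases eq_or_lt_of_le h with rfl | hlt
  · exact le_rfl
  obtain ⟨f, hfN, hfM, hpf⟩ := exists_step hlt
  set M' := M ⊔ Submodule.span (ZMod (p ^ n)) {f} with hM'
  have hle : M' ≤ N := sup_le h (by simpa [Submodule.span_singleton_le_iff_mem] using hfN)
  have hMM' : M ≤ M' := le_sup_left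
  have hlt' : M < M' := lt_of_le_of_ne hMM' (fun he => hfM (by
    rw [he]; exact Submodule.mem_sup_right (Submodule.mem_span_singleton_self f)))
  have hcardlt : Nat.card M < Nat.card M' :=
    Set.ncard_lt_ncard (by exact_mod_cast hlt') (Set.toFinite _)
  have hp : p.Prime := Fact.out
  -- `p * |M| ≤ |M'|`, since `|M|` is a proper divisor of `|M'|`, both powers of `p`
  have hcard : p * Nat.card M ≤ Nat.card M' := by
    have hdvd : Nat.card M.toAddSubgroup ∣ Nat.card M'.toAddSubgroup :=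
      AddSubgroup.card_dvd_of_le (by exact hMM')
    have hdvd' : Nat.card M ∣ Nat.card M' := hdvd
    have hMpow : Nat.card M' ∣ p ^ (2 * n) := by
      have h3 : Nat.card M'.toAddSubgroup ∣ Nat.card (Plane p n) :=
        M'.toAddSubgroup.card_addSubgroup_dvd_card
      simpa [two_mul, pow_add] using h3
    obtain ⟨b, -, hb⟩ := (Nat.dvd_prime_pow hp).mp hMpow
    obtain ⟨a, -, ha⟩ := (Nat.dvd_prime_pow hp).mp (hdvd'.trans hMpow)
    rw [ha, hb] at hcardlt ⊢
    rw [← pow_succ']
    exact Nat.pow_le_pow_right hp.pos ((Nat.pow_lt_pow_iff_right hp.one_lt).mp hcardlt)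
  -- `|perp M| ≤ p * |perp M'|`
  have hperp : Nat.card (perp M) ≤ p * Nat.card (perp M') := by
    let φ : (perp M).toAddSubgroup →+ ZMod (p ^ n) :=
      { toFun := fun x => pdet f x.1
        map_zero' := pdet_zero_right f
        map_add' := fun x y => pdet_add_right f x.1 y.1 }
    have hker : Nat.card φ.ker ≤ Nat.card (perp M') := by
      refine Nat.card_le_card_of_injective (fun x => ⟨x.1.1, fun e he => ?_⟩) ?_
      · obtain ⟨m, hm, y, hy, rfl⟩ := Submodule.mem_sup.mp he
        obtain ⟨c, rfl⟩ := Submodule.mem_span_singleton.mp hy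
        have h1 : pdet m x.1.1 = 0 := x.1.2 m hm
        have h2 : pdet f x.1.1 = 0 := x.2
        rw [pdet_swap, pdet_add_right, pdet_smul_right, pdet_swap x.1.1 m, pdet_swap x.1.1 f,
          h1, h2]
        simp
      · intro x y hxy
        exact Subtype.ext (Subtype.ext (congrArg Subtype.val hxy :))
    have hrange : Nat.card φ.range ≤ p := by
      rcases Nat.eq_zero_or_pos n with rfl | hn
      · have : Subsingleton (ZMod (p ^ 0)) := by rw [pow_zero]; infer_instance
        exact (Finite.card_le_one_iff_subsingleton.mpr inferInstance).trans hp.one_le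
      have h1 := torsion_card (p := p) (n := n) 1 hn
      rw [pow_one, pow_one] at h1
      refine le_of_le_of_eq ?_ h1
      refine Nat.card_le_card_of_injective (fun y => ⟨y.1, ?_⟩) ?_
      · obtain ⟨x, hx⟩ := y.2
        rw [← hx]
        change (p : ZMod (p ^ n)) * pdet f x.1 = 0
        have h2 : pdet ((p : ZMod (p ^ n)) • f) x.1 = 0 := x.2 _ hpf
        rw [← h2]
        simp [pdet]; ring
      · intro x y hxy
        exact Subtype.ext (congrArg Subtype.val hxy :)
    have h2 : Nat.card φ.range * Nat.card φ.ker = Nat.card (perp M) := by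
      rw [← Nat.card_congr (QuotientAddGroup.quotientKerEquivRange φ).toEquiv, ← φ.ker.card_eq_card_quotient_mul_card_addSubgroup]
      rfl
    rw [← h2]
    exact Nat.mul_le_mul hrange hker
  calc Nat.card M * Nat.card (perp M) ≤ Nat.card M * (p * Nat.card (perp M')) :=
        Nat.mul_le_mul le_rfl hperp
    _ = (p * Nat.card M) * Nat.card (perp M') := by ring
    _ ≤ Nat.card M' * Nat.card (perp M') := Nat.mul_le_mul hcard le_rfl
    _ ≤ _ := by
      have hle2 : Nat.card M' ≤ Nat.card N :=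
        Set.ncard_le_ncard (by exact_mod_cast hle) (Set.toFinite _)
      exact ih _ (by omega) hle rfl

theorem card_mul_card_perp (M : Submodule (ZMod (p ^ n)) (Plane p n)) :
    Nat.card M * Nat.card (perp M) = p ^ (2 * n) := by
  have h1 := card_mul_card_perp_mono (bot_le (a := M))
  have h2 := card_mul_card_perp_mono (le_top (a := M))
  have htop : Nat.card (⊤ : Submodule (ZMod (p ^ n)) (Plane p n)) = p ^ (2 * n) := by
    rw [Nat.card_congr (Submodule.topEquiv (R := ZMod (p ^ n)) (M := Plane p n)).toEquiv]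
    simp [two_mul, pow_add]
  have hbot : Nat.card (⊥ : Submodule (ZMod (p ^ n)) (Plane p n)) = 1 := Nat.card_unique
  rw [perp_bot, htop, hbot, one_mul] at h1
  rw [perp_top, htop, hbot, mul_one] at h2
  exact le_antisymm h2 h1

theorem perp_perp (M : Submodule (ZMod (p ^ n)) (Plane p n)) : perp (perp M) = M := by
  have : NeZero (p ^ n) := ⟨pow_ne_zero _ (Fact.out : p.Prime).ne_zero⟩
  symm
  apply SetLike.coe_injective
  refine Set.eq_of_subset_of_ncard_le (le_perp_perp M) ?_ (Set.toFinite _)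
  have h1 := card_mul_card_perp M
  have h2 := card_mul_card_perp (perp M)
  rw [← h1, mul_comm (Nat.card M)] at h2
  exact le_of_eq (Nat.eq_of_mul_eq_mul_left (Nat.card_pos) h2)

theorem torsion_eq_multiples (k : ℕ) (hk : k ≤ n) (x : ZMod (p ^ n))
    (hx : (p : ZMod (p ^ n)) ^ k * x = 0) : ∃ y, x = (p : ZMod (p ^ n)) ^ (n - k) * y := by
  have : NeZero (p ^ n) := ⟨pow_ne_zero _ (Fact.out : p.Prime).ne_zero⟩
  rw [← ZMod.natCast_rightInverse x] at hx ⊢
  rw [← Nat.cast_pow, ← Nat.cast_mul, ZMod.natCast_eq_zero_iff] at hx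
  have h2 : p ^ k * p ^ (n - k) ∣ p ^ k * x.val := by
    rwa [← pow_add, Nat.add_sub_cancel' hk]
  obtain ⟨y, hy⟩ := Nat.dvd_of_mul_dvd_mul_left (pow_pos (Fact.out : p.Prime).pos _) h2
  refine ⟨(y : ℕ), ?_⟩
  conv_lhs => rw [hy]
  push_cast
  rfl

theorem plane_torsion_eq_multiples (k : ℕ) (hk : k ≤ n) (x : Plane p n)
    (hx : (p : ZMod (p ^ n)) ^ k • x = 0) : ∃ y, x = (p : ZMod (p ^ n)) ^ (n - k) • y := by
  obtain ⟨a, ha⟩ := torsion_eq_multiples k hk x.1 (Prod.ext_iff.mp hx).1
  obtain ⟨b, hb⟩ := torsion_eq_multiples k hk x.2 (Prod.ext_iff.mp hx).2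
  exact ⟨(a, b), Prod.ext ha hb⟩

theorem isUnit_of_pow_mul_ne_zero {a : ZMod (p ^ n)} (h : (p : ZMod (p ^ n)) ^ (n - 1) * a ≠ 0) :
    IsUnit a := by
  have : NeZero (p ^ n) := ⟨pow_ne_zero _ (Fact.out : p.Prime).ne_zero⟩
  rw [← ZMod.natCast_rightInverse a] at h ⊢
  rw [ZMod.isUnit_iff_coprime]
  refine Nat.Coprime.pow_right _ (((Fact.out : p.Prime).coprime_iff_not_dvd.mpr ?_).symm)
  rintro ⟨d, hd⟩
  apply h
  rw [hd, Nat.cast_mul, ← mul_assoc, ← pow_succ]
  rcases Nat.eq_zero_or_pos n with rfl | hn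
  · have : Subsingleton (ZMod (p ^ 0)) := by rw [pow_zero]; infer_instance
    exact Subsingleton.elim _ _
  · rw [Nat.sub_add_cancel hn]
    have : (p : ZMod (p ^ n)) ^ n = 0 := by exact_mod_cast ZMod.natCast_self (p ^ n)
    simp [this]

/-- A submodule with a nonzero determinant contains all `p ^ (n - 1)`-multiples. -/
theorem smul_mem_of_pdet_ne_zero {M : Submodule (ZMod (p ^ n)) (Plane p n)} {e f : Plane p n}
    (he : e ∈ M) (hf : f ∈ M) (hd : pdet e f ≠ 0) (x : Plane p n) :
    (p : ZMod (p ^ n)) ^ (n - 1) • x ∈ M := by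
  set d := pdet e f with hddef
  have hex : ∃ k, (p : ZMod (p ^ n)) ^ k * d = 0 := by
    refine ⟨n, ?_⟩
    have : (p : ZMod (p ^ n)) ^ n = 0 := by exact_mod_cast ZMod.natCast_self (p ^ n)
    simp [this]
  classical
  have h0 : Nat.find hex ≠ 0 := by
    intro h0
    have h2 := Nat.find_spec hex
    rw [h0, pow_zero, one_mul] at h2
    exact hd h2
  obtain ⟨k, hk⟩ := Nat.exists_eq_succ_of_ne_zero h0
  -- `p^k * d` is a nonzero element killed by `p`
  have hne : (p : ZMod (p ^ n)) ^ k * d ≠ 0 := Nat.find_min hex (by omega)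
  have hn : 1 ≤ n := by
    by_contra hn
    obtain rfl : n = 0 := by omega
    have : Subsingleton (ZMod (p ^ 0)) := by rw [pow_zero]; infer_instance
    exact hd (Subsingleton.elim _ _)
  obtain ⟨y, hy⟩ := torsion_eq_multiples 1 hn ((p : ZMod (p ^ n)) ^ k * d) (by
    rw [pow_one, ← mul_assoc, ← pow_succ']
    have h2 := Nat.find_spec hex
    rwa [hk] at h2)
  have hu : IsUnit y := isUnit_of_pow_mul_ne_zero (hy ▸ hne)
  obtain ⟨z, hz⟩ := hu.exists_right_inv
  have hdx : d • x ∈ M := by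
    have : d • x = pdet x f • e + pdet e x • f := by
      ext <;> simp [hddef, pdet] <;> ring
    rw [this]
    exact M.add_mem (M.smul_mem _ he) (M.smul_mem _ hf)
  have h2 := M.smul_mem (z * (p : ZMod (p ^ n)) ^ k) hdx
  rw [smul_smul, mul_assoc, hy, mul_left_comm, mul_comm z y, hz, mul_one] at h2
  exact h2

/-- The perp of a submodule on which the pairing is nonzero is isotropic. -/
theorem perp_le_of_pdet_ne_zero {M : Submodule (ZMod (p ^ n)) (Plane p n)} {e₀ f₀ : Plane p n}
    (he₀ : e₀ ∈ M) (hf₀ : f₀ ∈ M) (hd : pdet e₀ f₀ ≠ 0) : perp M ≤ M := by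
  conv_rhs => rw [← perp_perp M]
  have hpn : (p : ZMod (p ^ n)) ^ n = 0 := by exact_mod_cast ZMod.natCast_self (p ^ n)
  -- minimal `k` with `p^k • M = 0`
  have hex : ∃ k, ∀ x ∈ M, (p : ZMod (p ^ n)) ^ k • x = 0 := ⟨n, fun x _ => by simp [hpn]⟩
  classical
  obtain ⟨k, hk, hkmin⟩ : ∃ k, (∀ x ∈ M, (p : ZMod (p ^ n)) ^ k • x = 0) ∧
      ∀ j < k, ¬ ∀ x ∈ M, (p : ZMod (p ^ n)) ^ j • x = 0 :=
    ⟨Nat.find hex, Nat.find_spec hex, fun j hj => Nat.find_min hex hj⟩
  have hkn : k ≤ n := by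
    by_contra h
    exact hkmin n (by omega) (fun x _ => by simp [hpn])
  have hk0 : k ≠ 0 := by
    rintro rfl
    have h1 := hk e₀ he₀
    rw [pow_zero, one_smul] at h1
    exact hd (by rw [h1]; simp [pdet])
  obtain ⟨e, he, hek⟩ : ∃ e ∈ M, (p : ZMod (p ^ n)) ^ (k - 1) • e ≠ 0 := by
    simpa using hkmin (k - 1) (by omega)
  obtain ⟨e', rfl⟩ := plane_torsion_eq_multiples k hkn e (hk e he)
  rw [smul_smul, ← pow_add, show k - 1 + (n - k) = n - 1 by omega] at hek
  -- complete `e'` to a basis of determinant one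
  obtain ⟨f', hf'⟩ : ∃ f', pdet e' f' = 1 := by
    by_cases h1 : (p : ZMod (p ^ n)) ^ (n - 1) * e'.1 = 0
    · have h2 : IsUnit e'.2 := isUnit_of_pow_mul_ne_zero (fun h2 => hek (Prod.ext h1 h2))
      obtain ⟨z, hz⟩ := h2.exists_right_inv
      exact ⟨(-z, 0), by simp [pdet, hz]⟩
    · obtain ⟨z, hz⟩ := (isUnit_of_pow_mul_ne_zero h1).exists_right_inv
      exact ⟨(0, z), by simp [pdet, hz]⟩
  have hexp : ∀ x, x = pdet x f' • e' + pdet e' x • f' := by
    intro x
    have h := hf'
    simp only [pdet] at h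
    ext <;> simp [pdet]
    · linear_combination (-x.1) * h
    · linear_combination (-x.2) * h
  have hexp' : ∀ x y, pdet x y = pdet x f' * pdet e' y - pdet e' x * pdet y f' := by
    intro x y
    conv_lhs => rw [hexp x, hexp y]
    have h := hf'
    simp only [pdet] at h
    simp [pdet]
    linear_combination ((x.1 * f'.2 - x.2 * f'.1) * (e'.1 * y.2 - e'.2 * y.1) -
      (e'.1 * x.2 - e'.2 * x.1) * (y.1 * f'.2 - y.2 * f'.1)) * h
  -- every element of `M` is a multiple of `p ^ (n - k)`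
  set P : ZMod (p ^ n) := (p : ZMod (p ^ n)) with hP
  have hc : ∀ x ∈ perp M, P ^ (n - k) * pdet e' x = 0 := by
    intro x hx
    rw [← hx _ he]
    simp [pdet]; ring
  -- an element of `M` whose second coordinate is large enough
  obtain ⟨m, hm, hμ⟩ : ∃ m ∈ M, P ^ (n - k) * pdet e' m ≠ 0 := by
    by_contra hcon
    push Not at hcon
    obtain ⟨u, hu⟩ := plane_torsion_eq_multiples k hkn e₀ (hk e₀ he₀)
    obtain ⟨v, hv⟩ := plane_torsion_eq_multiples k hkn f₀ (hk f₀ hf₀)
    have h1 := hcon e₀ he₀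
    have h2 := hcon f₀ hf₀
    apply hd
    rw [hexp' e₀ f₀, hu, hv]
    rw [hu] at h1
    rw [hv] at h2
    have e3 : pdet e' (P ^ (n - k) • v) = P ^ (n - k) * pdet e' v := pdet_smul_right _ _ _
    have e4 : pdet e' (P ^ (n - k) • u) = P ^ (n - k) * pdet e' u := pdet_smul_right _ _ _
    have e5 : ∀ w, pdet (P ^ (n - k) • w) f' = P ^ (n - k) * pdet w f' := by
      intro w; simp [pdet]; ring
    rw [e3] at h2 ⊢
    rw [e4] at h1 ⊢
    rw [e5, e5]
    linear_combination (pdet u f') * h2 - (pdet v f') * h1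
  have ha : ∀ x ∈ perp M, P ^ k * pdet x f' = 0 := by
    intro x hx
    have h0 := hx m hm
    rw [hexp'] at h0
    obtain ⟨m', hm'⟩ := plane_torsion_eq_multiples k hkn m (hk m hm)
    have e1 : pdet m f' * pdet e' x = 0 := by
      have : pdet m f' = P ^ (n - k) * pdet m' f' := by rw [hm']; simp [pdet, hP]; ring
      rw [this, mul_right_comm, hc x hx, zero_mul]
    rw [e1, zero_sub, neg_eq_zero] at h0
    by_contra hne
    have hex2 : ∃ l, P ^ l * pdet x f' = 0 := ⟨n, by simp only [hpn, zero_mul]⟩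
    obtain ⟨l, hl, hlmin⟩ : ∃ l, P ^ l * pdet x f' = 0 ∧ ∀ j < l, P ^ j * pdet x f' ≠ 0 :=
      ⟨Nat.find hex2, Nat.find_spec hex2, fun j hj => Nat.find_min hex2 hj⟩
    have hkl : k < l := by
      by_contra hcon
      apply hne
      rw [show k = (k - l) + l by omega, pow_add, mul_assoc, hl, mul_zero]
    have hln : l ≤ n := by
      by_contra hcon
      exact hlmin n (by omega) (by simp only [hpn, zero_mul])
    obtain ⟨y, hy⟩ := torsion_eq_multiples l hln _ hl
    have hy1 := hlmin (l - 1) (by omega)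
    rw [hy, ← mul_assoc, ← pow_add, show l - 1 + (n - l) = n - 1 by omega] at hy1
    obtain ⟨z, hz⟩ := (isUnit_of_pow_mul_ne_zero hy1).exists_right_inv
    apply hμ
    have h2 : P ^ (n - l) * pdet e' m = 0 := by
      have h3 : pdet e' m * (P ^ (n - l) * y) * z = 0 := by rw [← hy, h0, zero_mul]
      linear_combination h3 - (P ^ (n - l) * pdet e' m) * hz
    rw [show n - k = (l - k) + (n - l) by omega, pow_add, mul_assoc, h2, mul_zero]
  intro x hx y hy
  rw [hexp']
  obtain ⟨cx, hcx⟩ := torsion_eq_multiples (n - k) (by omega) _ (hc x hx)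
  obtain ⟨cy, hcy⟩ := torsion_eq_multiples (n - k) (by omega) _ (hc y hy)
  rw [show n - (n - k) = k by omega] at hcx hcy
  rw [hcx, hcy]
  linear_combination cx * ha y hy - cy * ha x hx

end CfsgLib.Metacyclic
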