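import Mathlib
import Cfsg.Prelude.Def_OddOrderLocal
import Cfsg.Agent.Lib.Metacyclic.GeomSum
import Cfsg.Agent.Lib.Metacyclic.Pairing

/-!
Metacyclic `p`-groups for odd `p`: coordinates `a ^ i * b ^ j`, the map to the plane over `ZMod (p ^ n)` and the
commutation criterion by the determinant.
-/

namespace CfsgLib.Metacyclic

/-- Coordinates for a metacyclic `p`-group. -/
structure MetaData (G : Type*) [Group G] (p : ℕ) where
  a : G
  b : G
  r : ℕ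
  m : ℕ
  n : ℕ
  s : ℕ
  w : ℕ
  c : ℕ
  order_a : orderOf a = p ^ r
  one_le_s : 1 ≤ s
  not_dvd_w : ¬ p ∣ w
  dvd_iff : ∀ x : ℕ, p ^ r ∣ p ^ s * x ↔ p ^ n ∣ x
  hconj : b * a * b⁻¹ = a ^ (p ^ s * w + 1)
  hgen : ∀ g : G, ∃ i j : ℕ, g = a ^ i * b ^ j
  hbm : ∀ j : ℕ, b ^ j ∈ Subgroup.zpowers a ↔ p ^ m ∣ j
  hbc : b ^ p ^ m = a ^ c
  c_pos : 0 < c
  c_le : c ≤ p ^ r

theorem exists_metaData {G : Type*} [Group G] [Finite G] {p : ℕ} [Fact p.Prime]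
    (hG : IsPGroup p G) (hmc : Cfsg.IsMetacyclic G) : Nonempty (MetaData G p) := by
  have hp : p.Prime := Fact.out
  obtain ⟨N, hN, hNc, hQc⟩ := hmc
  obtain ⟨a, rfl⟩ := Subgroup.isCyclic_iff_exists_zpowers_eq_top N |>.mp hNc
  obtain ⟨q, hq⟩ := hQc.exists_generator
  obtain ⟨b, rfl⟩ := QuotientGroup.mk_surjective q
  obtain ⟨r, hr⟩ := (hG.exists_orderOf_eq_pow a)
  obtain ⟨m, hm⟩ := ((hG.to_quotient (Subgroup.zpowers a)).exists_orderOf_eq_pow
    (b : G ⧸ Subgroup.zpowers a))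
  have hbm : ∀ j : ℕ, b ^ j ∈ Subgroup.zpowers a ↔ p ^ m ∣ j := by
    intro j
    rw [← hm, orderOf_dvd_iff_pow_eq_one, ← QuotientGroup.eq_one_iff, QuotientGroup.mk_pow]
  have hgen : ∀ g : G, ∃ i j : ℕ, g = a ^ i * b ^ j := by
    intro g
    obtain ⟨j, hj⟩ := mem_powers_iff_mem_zpowers.mpr (hq (g : G ⧸ Subgroup.zpowers a))
    have h2 : g * (b ^ j)⁻¹ ∈ Subgroup.zpowers a := by
      rw [← QuotientGroup.eq_one_iff, QuotientGroup.mk_mul, QuotientGroup.mk_inv,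
        QuotientGroup.mk_pow]
      simp only at hj
      rw [hj, mul_inv_cancel]
    obtain ⟨i, hi⟩ := mem_powers_iff_mem_zpowers.mpr h2
    simp only at hi
    exact ⟨i, j, by rw [hi, inv_mul_cancel_right]⟩
  obtain ⟨c, hc0, hc1, hbc⟩ : ∃ c, 0 < c ∧ c ≤ p ^ r ∧ b ^ p ^ m = a ^ c := by
    obtain ⟨c₀, hc₀⟩ := mem_powers_iff_mem_zpowers.mpr ((hbm (p ^ m)).mpr dvd_rfl)
    simp only at hc₀
    have h3 : b ^ p ^ m = a ^ (c₀ % p ^ r) := by rw [← hc₀, ← hr, pow_mod_orderOf]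
    rcases Nat.eq_zero_or_pos (c₀ % p ^ r) with h | h
    · refine ⟨p ^ r, pow_pos hp.pos _, le_rfl, ?_⟩
      rw [h3, h, pow_zero, ← hr, pow_orderOf_eq_one]
    · exact ⟨_, h, (Nat.mod_lt _ (pow_pos hp.pos _)).le, h3⟩
  obtain ⟨u₀, hu₀⟩ := mem_powers_iff_mem_zpowers.mpr
    (hN.conj_mem a (Subgroup.mem_zpowers a) b)
  simp only at hu₀
  by_cases hab : b * a * b⁻¹ = a
  · refine ⟨⟨a, b, r, m, 0, r + 1, 1, c, hr, by omega, hp.not_dvd_one, fun x => ?_, ?_, hgen, hbm,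
      hbc, hc0, hc1⟩⟩
    · simp only [pow_zero, one_dvd, iff_true]
      exact Dvd.dvd.mul_right (pow_dvd_pow p (by omega)) x
    · rw [hab, mul_one, pow_succ a, pow_succ p, pow_mul, ← hr, pow_orderOf_eq_one, one_pow, one_mul]
  -- the exponent, reduced
  set u₁ := u₀ % p ^ r with hu₁
  have hau : b * a * b⁻¹ = a ^ u₁ := by rw [← hu₀, hu₁, ← hr, pow_mod_orderOf]
  have hu_lt : u₁ < p ^ r := Nat.mod_lt _ (pow_pos hp.pos _)
  clear_value u₁
  have hr0 : r ≠ 0 := by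
    rintro rfl
    rw [pow_zero, orderOf_eq_one_iff] at hr
    exact hab (by simp [hr])
  have ha1 : a ≠ 1 := by
    intro h
    exact hab (by simp [h])
  have hu1 : 2 ≤ u₁ := by
    by_contra hcon
    rcases (show u₁ = 0 ∨ u₁ = 1 by omega) with h | h
    · rw [h, pow_zero, conj_eq_one_iff] at hau; exact ha1 hau
    · exact hab (by rw [hau, h, pow_one])
  -- `u₁ ≡ 1 (mod p)`
  have hiter : ∀ k : ℕ, b ^ k * a * (b ^ k)⁻¹ = a ^ u₁ ^ k := by
    intro k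
    induction k with
    | zero => simp
    | succ k ih =>
      rw [pow_succ' b, mul_inv_rev, show b * b ^ k * a * ((b ^ k)⁻¹ * b⁻¹)
        = b * (b ^ k * a * (b ^ k)⁻¹) * b⁻¹ by group, ih, ← conj_pow, hau, ← pow_mul, pow_succ']
  have hmod : u₁ ≡ 1 [MOD p] := by
    obtain ⟨e, he⟩ := hG.exists_orderOf_eq_pow b
    have h := hiter (p ^ e)
    rw [← he, pow_orderOf_eq_one, one_mul, inv_one, mul_one, he] at h
    nth_rewrite 1 [← pow_one a] at h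
    have h2 := (pow_eq_pow_iff_modEq.mp h)
    rw [hr] at h2
    have h3 : 1 ≡ u₁ ^ p ^ e [MOD p] := h2.of_dvd (dvd_pow_self p hr0)
    rw [← ZMod.natCast_eq_natCast_iff] at h3 ⊢
    push_cast at h3 ⊢
    rw [h3, ZMod.pow_card_pow]
  obtain ⟨d, hd⟩ := (Nat.modEq_iff_dvd' (by omega : 1 ≤ u₁)).mp hmod.symm
  obtain ⟨s, w, hw, hsw⟩ := Nat.exists_eq_pow_mul_and_not_dvd (show u₁ - 1 ≠ 0 by omega) p hp.ne_one
  have hs1 : 1 ≤ s := by
    by_contra hs
    obtain rfl : s = 0 := by omega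
    rw [pow_zero, one_mul] at hsw
    exact hw ⟨d, by rw [← hsw, hd]⟩
  have hsr : s < r := by
    by_contra hcon
    have h1 : p ^ r ∣ u₁ - 1 := hsw ▸ Dvd.dvd.mul_right (pow_dvd_pow p (by omega)) w
    have := Nat.le_of_dvd (by omega) h1
    omega
  refine ⟨⟨a, b, r, m, r - s, s, w, c, hr, hs1, hw, fun x => ?_, ?_, hgen, hbm, hbc, hc0, hc1⟩⟩
  · conv_lhs => rw [show r = s + (r - s) by omega, pow_add]
    exact Nat.mul_dvd_mul_iff_left (pow_pos hp.pos _)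
  · rw [hau, ← hsw, Nat.sub_add_cancel (by omega : 1 ≤ u₁)]

namespace MetaData

variable {G : Type*} [Group G] {p : ℕ} (D : MetaData G p)

/-- The conjugation exponent. -/
def u : ℕ := p ^ D.s * D.w + 1

/-- `S j = 1 + u + ⋯ + u ^ (j - 1)`. -/
def S (j : ℕ) : ℕ := geomS D.u j

theorem u_modEq : D.u ≡ 1 [MOD p] := by
  have h : p ^ D.s * D.w ≡ 0 [MOD p] :=
    Nat.modEq_zero_iff_dvd.mpr (Dvd.dvd.mul_right (dvd_pow_self p (by have := D.one_le_s; omega)) _)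
  simpa [u] using h.add_right 1

theorem u_pow (j : ℕ) : D.u ^ j = p ^ D.s * (D.w * D.S j) + 1 := by
  rw [u, pow_eq_one_add_mul_geomS, mul_assoc]
  rfl

theorem b_pow_mul_a_pow (j i : ℕ) : D.b ^ j * D.a ^ i = D.a ^ (i * D.u ^ j) * D.b ^ j := by
  induction j with
  | zero => simp
  | succ j ih =>
    have hb : ∀ k : ℕ, D.b * D.a ^ k = D.a ^ (k * D.u) * D.b := by
      intro k
      rw [mul_comm k, pow_mul, u, ← D.hconj, conj_pow, inv_mul_cancel_right]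
    rw [pow_succ', mul_assoc, ih, ← mul_assoc, hb, mul_assoc, pow_succ D.u, mul_assoc i]

theorem mul_coord (i j k l : ℕ) :
    (D.a ^ i * D.b ^ j) * (D.a ^ k * D.b ^ l) = D.a ^ (i + k * D.u ^ j) * D.b ^ (j + l) := by
  rw [pow_add, pow_add, ← mul_assoc, ← mul_assoc, mul_assoc (D.a ^ i) (D.b ^ j),
    D.b_pow_mul_a_pow, ← mul_assoc]

theorem pow_a_eq_iff {x y : ℕ} : D.a ^ x = D.a ^ y ↔ (p ^ D.r : ℤ) ∣ (y : ℤ) - x := by
  rw [pow_eq_pow_iff_modEq, D.order_a, Nat.modEq_iff_dvd, Nat.cast_pow]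

theorem dvd_iff_int (x : ℤ) :
    (p ^ D.r : ℤ) ∣ (p : ℤ) ^ D.s * x ↔ (p ^ D.n : ℤ) ∣ x := by
  have h := D.dvd_iff x.natAbs
  rw [← Int.natAbs_dvd_natAbs, ← Int.natAbs_dvd_natAbs (b := x), Int.natAbs_mul, Int.natAbs_pow,
    Int.natAbs_pow, Int.natAbs_pow, Int.natAbs_natCast]
  exact h

variable [Fact p.Prime]

theorem dvd_w_iff (x : ℤ) :
    (p ^ D.r : ℤ) ∣ (p : ℤ) ^ D.s * ((D.w : ℤ) * x) ↔ (x : ZMod (p ^ D.n)) = 0 := by
  rw [D.dvd_iff_int, ZMod.intCast_zmod_eq_zero_iff_dvd, Nat.cast_pow]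
  refine ⟨fun h => Int.dvd_of_dvd_mul_right_of_gcd_one h ?_, fun h => Dvd.dvd.mul_left h _⟩
  have hcop : Nat.Coprime (p ^ D.n) D.w :=
    Nat.Coprime.pow_left _ ((Nat.Prime.coprime_iff_not_dvd Fact.out).mpr D.not_dvd_w)
  rw [← Nat.cast_pow, Int.gcd_natCast_natCast]
  exact hcop

/-- The commutation criterion. -/
theorem commute_iff (i j k l : ℕ) :
    (D.a ^ i * D.b ^ j) * (D.a ^ k * D.b ^ l) = (D.a ^ k * D.b ^ l) * (D.a ^ i * D.b ^ j) ↔
      (i : ZMod (p ^ D.n)) * (D.S l : ℕ) = (k : ZMod (p ^ D.n)) * (D.S j : ℕ) := by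
  rw [D.mul_coord, D.mul_coord, add_comm l j, mul_left_inj, D.pow_a_eq_iff]
  have e : ((k + i * D.u ^ l : ℕ) : ℤ) - ((i + k * D.u ^ j : ℕ) : ℤ) =
      (p : ℤ) ^ D.s * ((D.w : ℤ) * ((i : ℤ) * (D.S l : ℕ) - (k : ℤ) * (D.S j : ℕ))) := by
    rw [D.u_pow, D.u_pow]
    push_cast
    ring
  rw [e, D.dvd_w_iff]
  push_cast
  exact sub_eq_zero

theorem coord_unique {i j k l : ℕ} (h : D.a ^ i * D.b ^ j = D.a ^ k * D.b ^ l) :
    (i : ZMod (p ^ D.n)) = (k : ℕ) ∧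
      ((D.S j : ℕ) : ZMod (p ^ D.n)) = (D.S l : ℕ) := by
  have hS0 : D.S 0 = 0 := geomS_zero _
  have hS1 : D.S 1 = 1 := geomS_one _
  constructor
  · -- compare commutation with `b`
    have key : ∀ i j : ℕ, (D.a ^ i * D.b ^ j) * D.b * (D.a ^ i * D.b ^ j)⁻¹ =
        D.a ^ i * D.b * (D.a ^ i)⁻¹ := by
      intro i j
      rw [mul_inv_rev, mul_assoc (D.a ^ i), ← pow_succ, pow_succ']
      group
    have h1 := key i j
    rw [h, key k l] at h1
    -- `a ^ i * b * a ^ (-i)` determines `i`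
    have h2 : D.a ^ i * D.b * D.a ^ k = D.a ^ k * D.b * D.a ^ i := by
      have h3 : D.a ^ k * D.b * (D.a ^ k)⁻¹ * (D.a ^ k * D.a ^ i) =
          D.a ^ i * D.b * (D.a ^ i)⁻¹ * (D.a ^ k * D.a ^ i) := by rw [h1]
      rw [mul_assoc (D.a ^ k * D.b), inv_mul_cancel_left, ← pow_add D.a k i, add_comm k i,
        pow_add, mul_assoc (D.a ^ i * D.b), inv_mul_cancel_left] at h3
      exact h3.symm
    have h4 : (D.a ^ i * D.b ^ 1) * (D.a ^ k * D.b ^ 0) = (D.a ^ k * D.b ^ 1) * (D.a ^ i * D.b ^ 0) := by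
      simpa using h2
    rw [D.mul_coord, D.mul_coord, mul_left_inj, D.pow_a_eq_iff] at h4
    have e : ((k + i * D.u ^ 1 : ℕ) : ℤ) - ((i + k * D.u ^ 1 : ℕ) : ℤ) =
        (p : ℤ) ^ D.s * ((D.w : ℤ) * ((i : ℤ) - k)) := by
      simp only [pow_one, u]
      push_cast
      ring
    rw [e, D.dvd_w_iff] at h4
    push_cast at h4
    exact sub_eq_zero.mp h4
  · have key : ∀ i j : ℕ, (D.a ^ i * D.b ^ j) * D.a * (D.a ^ i * D.b ^ j)⁻¹ = D.a ^ D.u ^ j := by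
      intro i j
      have h0 := D.b_pow_mul_a_pow j 1
      rw [pow_one, one_mul] at h0
      rw [mul_assoc (D.a ^ i), h0, mul_inv_rev]
      group
    have h1 := key i j
    rw [h, key k l, D.pow_a_eq_iff] at h1
    have e : ((D.u ^ j : ℕ) : ℤ) - ((D.u ^ l : ℕ) : ℤ) =
        (p : ℤ) ^ D.s * ((D.w : ℤ) * (((D.S j : ℕ) : ℤ) - (D.S l : ℕ))) := by
      rw [D.u_pow, D.u_pow]
      push_cast
      ring
    rw [e, D.dvd_w_iff] at h1
    push_cast at h1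
    exact sub_eq_zero.mp h1

/-- The first coordinate exponent. -/
noncomputable def ei (g : G) : ℕ := (D.hgen g).choose

/-- The second coordinate exponent. -/
noncomputable def ej (g : G) : ℕ := (D.hgen g).choose_spec.choose

omit [Fact p.Prime] in
theorem coord_spec (g : G) : g = D.a ^ D.ei g * D.b ^ D.ej g :=
  (D.hgen g).choose_spec.choose_spec

/-- The map to the plane. -/
noncomputable def psi (g : G) : Plane p D.n :=
  ((D.ei g : ℕ), (D.S (D.ej g) : ℕ))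

/-- The scalar by which left multiplication acts. -/
noncomputable def mu (g : G) : ZMod (p ^ D.n) := ((D.u ^ D.ej g : ℕ) : ZMod (p ^ D.n))

theorem psi_coord (i j : ℕ) : D.psi (D.a ^ i * D.b ^ j) = ((i : ZMod (p ^ D.n)), ((D.S j : ℕ) : ZMod (p ^ D.n))) := by
  obtain ⟨h1, h2⟩ := D.coord_unique (D.coord_spec (D.a ^ i * D.b ^ j)).symm
  exact Prod.ext h1 h2

theorem mu_coord (i j : ℕ) : D.mu (D.a ^ i * D.b ^ j) = ((D.u ^ j : ℕ) : ZMod (p ^ D.n)) := by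
  have h := (D.coord_unique (D.coord_spec (D.a ^ i * D.b ^ j)).symm).2
  rw [mu, D.u_pow, D.u_pow]
  push_cast
  rw [h]

theorem psi_mul (g h : G) : D.psi (g * h) = D.psi g + D.mu g • D.psi h := by
  rw [D.coord_spec g, D.coord_spec h, D.mul_coord, D.psi_coord, D.psi_coord, D.psi_coord,
    D.mu_coord, S, geomS_add]
  simp only [S]
  push_cast
  ext <;> simp [mul_comm]

theorem psi_one : D.psi 1 = 0 := by
  have h := D.psi_coord 0 0
  rw [← Prod.mk_zero_zero]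
  simpa [S, geomS_zero] using h

theorem psi_a : D.psi D.a = (1, 0) := by
  have h := D.psi_coord 1 0
  simpa [S, geomS_zero] using h

theorem psi_b : D.psi D.b = (0, 1) := by
  have h := D.psi_coord 0 1
  simpa [S, geomS_one] using h

theorem mu_isUnit (g : G) : IsUnit (D.mu g) := by
  rw [mu, ZMod.isUnit_iff_coprime]
  exact (Nat.Coprime.pow _ _ ((Nat.Prime.coprime_iff_not_dvd Fact.out).mpr
    (pow_not_dvd Fact.out D.u_modEq))).symm

theorem commute_iff_pdet (g h : G) : g * h = h * g ↔ pdet (D.psi g) (D.psi h) = 0 := by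
  conv_lhs => rw [D.coord_spec g, D.coord_spec h, D.commute_iff]
  simp only [pdet, psi, sub_eq_zero]
  rw [mul_comm ((D.S (D.ej g) : ℕ) : ZMod (p ^ D.n))]

end MetaData
end CfsgLib.Metacyclic
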