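import Mathlib
import Cfsg.Agent.Lib.Metacyclic.Basic

/-!
Subgroups of a metacyclic `p`-group (`p` odd) as submodules of the plane; centraliser duality, the centre and the
derived subgroup.
-/

namespace CfsgLib.Metacyclic.MetaData

open Subgroup commutatorElement

variable {G : Type*} [Group G] {p : ℕ} [Fact p.Prime] (D : MetaData G p)

include D

theorem geom_surjective (hodd : Odd p) (y : ZMod (p ^ D.n)) :
    ∃ j, ((D.S j : ℕ) : ZMod (p ^ D.n)) = y :=
  geomS_surjective Fact.out hodd D.u_modEq D.n y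

theorem psi_surjective (hodd : Odd p) : Function.Surjective D.psi := by
  rintro ⟨x, y⟩
  have : NeZero (p ^ D.n) := ⟨pow_ne_zero _ (Fact.out : p.Prime).ne_zero⟩
  obtain ⟨j, hj⟩ := D.geom_surjective hodd y
  refine ⟨D.a ^ x.val * D.b ^ j, ?_⟩
  rw [D.psi_coord, hj, ZMod.natCast_rightInverse x]

theorem psi_pow (g : G) (k : ℕ) :
    D.psi (g ^ k) = ((geomS (D.u ^ D.ej g) k : ℕ) : ZMod (p ^ D.n)) • D.psi g := by
  induction k with
  | zero => simp [D.psi_one, geomS_zero]
  | succ k ih =>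
    rw [pow_succ', D.psi_mul, ih, smul_smul]
    conv_lhs => rw [← one_smul (ZMod (p ^ D.n)) (D.psi g), ← smul_assoc, ← add_smul]
    have e : geomS (D.u ^ D.ej g) (k + 1) = 1 + D.u ^ D.ej g * geomS (D.u ^ D.ej g) k := by
      rw [add_comm k, geomS_add, geomS_one, pow_one]
    rw [e, mu]
    simp

theorem smul_psi_mem (hodd : Odd p) (g : G) (c : ZMod (p ^ D.n)) :
    ∃ k : ℕ, D.psi (g ^ k) = c • D.psi g := by
  have hu : D.u ^ D.ej g ≡ 1 [MOD p] := by simpa using D.u_modEq.pow (D.ej g)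
  obtain ⟨k, hk⟩ := geomS_surjective Fact.out hodd hu D.n c
  exact ⟨k, by rw [D.psi_pow, hk]⟩

theorem psi_eq_zero_iff (g : G) : D.psi g = 0 ↔ g ∈ center G := by
  constructor
  · intro h
    rw [mem_center_iff]
    intro x
    rw [D.commute_iff_pdet, h, pdet_zero_right]
  · intro h
    rw [mem_center_iff] at h
    have h1 := (D.commute_iff_pdet D.a g).mp (h D.a)
    have h2 := (D.commute_iff_pdet D.b g).mp (h D.b)
    rw [D.psi_a] at h1
    rw [D.psi_b] at h2
    simp [pdet] at h1 h2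
    exact Prod.ext h2 h1

theorem psi_inv (g : G) : D.mu g • D.psi g⁻¹ = -D.psi g := by
  have h := D.psi_mul g g⁻¹
  rw [mul_inv_cancel, D.psi_one] at h
  exact eq_neg_of_add_eq_zero_right h.symm

theorem psi_eq_iff (g h : G) : D.psi g = D.psi h ↔ g⁻¹ * h ∈ center G := by
  rw [← D.psi_eq_zero_iff]
  have e : D.psi h = D.psi g + D.mu g • D.psi (g⁻¹ * h) := by
    rw [← D.psi_mul, mul_inv_cancel_left]
  constructor
  · intro heq
    rw [heq, left_eq_add] at e
    exact (D.mu_isUnit g).smul_eq_zero.mp e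
  · intro h0
    rw [h0, smul_zero, add_zero] at e
    exact e.symm

/-- The submodule attached to a subgroup. -/
def img (hodd : Odd p) (H : Subgroup G) : Submodule (ZMod (p ^ D.n)) (Plane p D.n) where
  carrier := D.psi '' (H : Set G)
  add_mem' := by
    rintro _ _ ⟨x, hx, rfl⟩ ⟨y, hy, rfl⟩
    obtain ⟨z, hz⟩ := (D.mu_isUnit x).exists_right_inv
    obtain ⟨k, hk⟩ := D.smul_psi_mem hodd y z
    refine ⟨x * y ^ k, H.mul_mem hx (H.pow_mem hy k), ?_⟩
    rw [D.psi_mul, hk, smul_smul, hz, one_smul]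
  zero_mem' := ⟨1, H.one_mem, D.psi_one⟩
  smul_mem' := by
    rintro c _ ⟨x, hx, rfl⟩
    obtain ⟨k, hk⟩ := D.smul_psi_mem hodd x c
    exact ⟨x ^ k, H.pow_mem hx k, hk⟩

theorem mem_img {hodd : Odd p} {H : Subgroup G} {e : Plane p D.n} :
    e ∈ D.img hodd H ↔ ∃ h ∈ H, D.psi h = e := Iff.rfl

theorem psi_mem_img {hodd : Odd p} {H : Subgroup G} {h : G} (hh : h ∈ H) :
    D.psi h ∈ D.img hodd H := ⟨h, hh, rfl⟩

/-- The subgroup attached to a submodule. -/
def pre (M : Submodule (ZMod (p ^ D.n)) (Plane p D.n)) : Subgroup G where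
  carrier := {g | D.psi g ∈ M}
  mul_mem' {x y} hx hy := by
    simp only [Set.mem_ofPred_eq] at hx hy ⊢
    rw [D.psi_mul]
    exact M.add_mem hx (M.smul_mem _ hy)
  one_mem' := by simp [D.psi_one]
  inv_mem' {x} hx := by
    simp only [Set.mem_ofPred_eq] at hx ⊢
    obtain ⟨z, hz⟩ := (D.mu_isUnit x).exists_right_inv
    have h := congrArg (z • ·) (D.psi_inv x)
    simp only [smul_smul, mul_comm z, hz, one_smul] at h
    rw [h]
    exact M.smul_mem _ (M.neg_mem hx)

theorem mem_pre {M : Submodule (ZMod (p ^ D.n)) (Plane p D.n)} {g : G} :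
    g ∈ D.pre M ↔ D.psi g ∈ M := Iff.rfl

theorem center_le_pre (M : Submodule (ZMod (p ^ D.n)) (Plane p D.n)) : center G ≤ D.pre M := by
  intro g hg
  rw [D.mem_pre, (D.psi_eq_zero_iff g).mpr hg]
  exact M.zero_mem

theorem img_pre (hodd : Odd p) (M : Submodule (ZMod (p ^ D.n)) (Plane p D.n)) :
    D.img hodd (D.pre M) = M := by
  ext e
  constructor
  · rintro ⟨g, hg, rfl⟩
    exact hg
  · intro he
    obtain ⟨g, rfl⟩ := D.psi_surjective hodd e
    exact ⟨g, he, rfl⟩

theorem pre_img (hodd : Odd p) (H : Subgroup G) : D.pre (D.img hodd H) = H ⊔ center G := by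
  refine le_antisymm ?_ (sup_le (fun g hg => D.psi_mem_img (hodd := hodd) hg) (D.center_le_pre _))
  rintro g ⟨h, hh, he⟩
  rw [show g = h * (h⁻¹ * g) by group]
  exact mul_mem (mem_sup_left hh) (mem_sup_right ((D.psi_eq_iff h g).mp he))

theorem pre_img_of_le (hodd : Odd p) {H : Subgroup G} (hH : center G ≤ H) :
    D.pre (D.img hodd H) = H := by
  rw [D.pre_img, sup_eq_left.mpr hH]

theorem centralizer_eq (hodd : Odd p) (H : Subgroup G) :
    centralizer (H : Set G) = D.pre (perp (D.img hodd H)) := by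
  ext g
  rw [mem_centralizer_iff, D.mem_pre, mem_perp]
  constructor
  · rintro h _ ⟨x, hx, rfl⟩
    exact (D.commute_iff_pdet x g).mp (h x hx)
  · intro h x hx
    exact (D.commute_iff_pdet x g).mpr (h _ (D.psi_mem_img hx))

variable [Finite G]

omit [Finite G] in
theorem card_pre (hodd : Odd p) (M : Submodule (ZMod (p ^ D.n)) (Plane p D.n)) :
    Nat.card (D.pre M) = Nat.card (center G) * Nat.card M := by
  rw [← Nat.card_prod]
  refine (Nat.card_congr ?_).symm
  choose sec hsec using D.psi_surjective hodd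
  have hmem : ∀ (z : center G) (e : M), D.psi (sec e * z) = (e : Plane p D.n) := by
    intro z e
    rw [D.psi_mul, hsec, (D.psi_eq_zero_iff _).mpr z.2, smul_zero, add_zero]
  refine Equiv.ofBijective (fun x => ⟨sec x.2 * x.1, ?_⟩) ⟨?_, ?_⟩
  · rw [D.mem_pre, hmem]
    exact x.2.2
  · rintro ⟨z, e⟩ ⟨z', e'⟩ h
    have h1 : sec e * z = sec e' * z' := congrArg Subtype.val h
    have h2 := congrArg D.psi h1
    rw [hmem, hmem] at h2
    obtain rfl : e = e' := Subtype.ext h2
    rw [mul_right_inj] at h1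
    rw [Subtype.ext h1]
  · rintro ⟨g, hg⟩
    refine ⟨(⟨(sec (D.psi g))⁻¹ * g, (D.psi_eq_iff _ _).mp (hsec _)⟩, ⟨D.psi g, hg⟩), ?_⟩
    simp

theorem card_eq (hodd : Odd p) : Nat.card G = Nat.card (center G) * p ^ (2 * D.n) := by
  have h := D.card_pre hodd ⊤
  have h1 : D.pre ⊤ = ⊤ := by ext g; simp [D.mem_pre]
  have h2 : Nat.card (⊤ : Submodule (ZMod (p ^ D.n)) (Plane p D.n)) = p ^ (2 * D.n) := by
    rw [Nat.card_congr (Submodule.topEquiv (R := ZMod (p ^ D.n)) (M := Plane p D.n)).toEquiv]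
    simp [two_mul, pow_add]
  rw [h1, h2, Subgroup.card_top] at h
  exact h

theorem center_index (hodd : Odd p) : (center G).index = p ^ (2 * D.n) := by
  have h := (center G).card_mul_index
  rw [D.card_eq hodd] at h
  exact Nat.eq_of_mul_eq_mul_left Nat.card_pos h

theorem card_mul_card_centralizer (hodd : Odd p) {H : Subgroup G} (hH : center G ≤ H) :
    Nat.card H * Nat.card (centralizer (H : Set G)) = Nat.card G * Nat.card (center G) := by
  conv_lhs => rw [← D.pre_img_of_le hodd hH]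
  rw [D.centralizer_eq hodd, D.img_pre hodd, D.card_pre hodd, D.card_pre hodd, D.card_eq hodd,
    ← card_mul_card_perp (D.img hodd H)]
  ring

omit D [Fact p.Prime] [Finite G] in
theorem centralizer_sup_center (H : Subgroup G) :
    centralizer ((H ⊔ center G : Subgroup G) : Set G) = centralizer (H : Set G) := by
  refine le_antisymm (centralizer_le (le_sup_left (b := center G))) ?_
  rw [le_centralizer_iff, sup_le_iff]
  exact ⟨le_centralizer_iff.mp le_rfl, fun z hz => mem_centralizer_iff.mpr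
    fun x _ => (mem_center_iff.mp hz x)⟩

omit [Finite G] in
theorem centralizer_centralizer (hodd : Odd p) (H : Subgroup G) :
    centralizer (centralizer (H : Set G) : Set G) = H ⊔ center G := by
  rw [D.centralizer_eq hodd (centralizer _), D.centralizer_eq hodd H, D.img_pre hodd, perp_perp,
    D.pre_img hodd]

omit D [Fact p.Prime] [Finite G] in
theorem isMulCommutative_iff (H : Subgroup G) :
    IsMulCommutative H ↔ H ≤ centralizer (H : Set G) :=
  le_centralizer_iff_isMulCommutative.symm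

omit [Finite G] in
theorem not_comm_pdet {hodd : Odd p} {H : Subgroup G} (hH : ¬ IsMulCommutative H) :
    ∃ e ∈ D.img hodd H, ∃ f ∈ D.img hodd H, pdet e f ≠ 0 := by
  by_contra hcon
  push Not at hcon
  refine hH ((isMulCommutative_iff H).mpr fun x hx => mem_centralizer_iff.mpr fun y hy => ?_)
  exact (D.commute_iff_pdet y x).mpr (hcon _ (D.psi_mem_img hy) _ (D.psi_mem_img hx))

omit [Finite G] in
theorem coord_of_center {i j : ℕ} (hodd : Odd p) (h : D.a ^ i * D.b ^ j ∈ center G) :
    p ^ D.n ∣ i ∧ p ^ D.n ∣ j := by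
  rw [← D.psi_eq_zero_iff, D.psi_coord, Prod.mk_eq_zero, ZMod.natCast_eq_zero_iff,
    ZMod.natCast_eq_zero_iff] at h
  exact ⟨h.1, (pow_dvd_geomS_iff Fact.out hodd D.u_modEq D.n j).mp h.2⟩

omit [Finite G] in
theorem center_eq (hodd : Odd p) :
    center G = Subgroup.closure {D.a ^ p ^ D.n, D.b ^ p ^ D.n} := by
  apply le_antisymm
  · intro z hz
    rw [D.coord_spec z] at hz ⊢
    obtain ⟨⟨i, hi⟩, j, hj⟩ := D.coord_of_center hodd hz
    rw [hi, hj, pow_mul, pow_mul]
    have h1 : D.a ^ p ^ D.n ∈ Subgroup.closure {D.a ^ p ^ D.n, D.b ^ p ^ D.n} :=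
      Subgroup.subset_closure (by simp)
    have h2 : D.b ^ p ^ D.n ∈ Subgroup.closure {D.a ^ p ^ D.n, D.b ^ p ^ D.n} :=
      Subgroup.subset_closure (by simp)
    exact mul_mem (pow_mem h1 i) (pow_mem h2 j)
  · rw [Subgroup.closure_le]
    have h0 : ((p ^ D.n : ℕ) : ZMod (p ^ D.n)) = 0 := ZMod.natCast_self _
    rintro x (rfl | rfl)
    · rw [SetLike.mem_coe, ← D.psi_eq_zero_iff, D.psi_pow, D.psi_a]
      ext
      · have h2 : ((geomS (D.u ^ D.ej D.a) (p ^ D.n) : ℕ) : ZMod (p ^ D.n)) = 0 := by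
          rw [ZMod.natCast_eq_zero_iff]
          exact (pow_dvd_geomS_iff Fact.out hodd (by simpa using D.u_modEq.pow _) _ _).mpr dvd_rfl
        simp [h2]
      · simp
    · rw [SetLike.mem_coe, ← D.psi_eq_zero_iff, D.psi_pow, D.psi_b]
      ext
      · simp
      · have h2 : ((geomS (D.u ^ D.ej D.b) (p ^ D.n) : ℕ) : ZMod (p ^ D.n)) = 0 := by
          rw [ZMod.natCast_eq_zero_iff]
          exact (pow_dvd_geomS_iff Fact.out hodd (by simpa using D.u_modEq.pow _) _ _).mpr dvd_rfl
        simp [h2]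

theorem center_le_of_not_comm (hodd : Odd p) {H : Subgroup G} (hH : ¬ IsMulCommutative H) :
    center G ≤ H := by
  obtain ⟨e, he, f, hf, hd⟩ := D.not_comm_pdet (hodd := hodd) hH
  have hn : 1 ≤ D.n := by
    by_contra hn
    have h0 : D.n = 0 := by omega
    apply hd
    have : Subsingleton (ZMod (p ^ D.n)) := by rw [h0, pow_zero]; infer_instance
    exact Subsingleton.elim _ _
  have hp : p.Prime := Fact.out
  -- `a ^ (p ^ (n-1))` and `b ^ (p ^ (n-1))` lie in `H` up to a central factor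
  have key : ∀ x : G, ∃ z ∈ center G, x ^ p ^ D.n * z ^ p ∈ H := by
    intro x
    have h1 : D.psi (x ^ p ^ (D.n - 1)) ∈ D.img hodd H := by
      rw [D.psi_pow]
      obtain ⟨c, hc⟩ : p ^ (D.n - 1) ∣ geomS (D.u ^ D.ej x) (p ^ (D.n - 1)) :=
        (pow_dvd_geomS_iff hp hodd (by simpa using D.u_modEq.pow (D.ej x)) _ _).mpr dvd_rfl
      rw [hc, Nat.cast_mul, mul_smul, Nat.cast_pow]
      exact smul_mem_of_pdet_ne_zero he hf hd _
    obtain ⟨h, hh, he'⟩ := h1
    have hz := (D.psi_eq_iff _ h).mp he'.symm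
    refine ⟨_, hz, ?_⟩
    set y := x ^ p ^ (D.n - 1) with hy
    have hcomm : Commute y (y⁻¹ * h) := mem_center_iff.mp hz y
    have h2 : x ^ p ^ D.n = y ^ p := by
      rw [hy, ← pow_mul, ← pow_succ, Nat.sub_add_cancel hn]
    rw [h2, ← hcomm.mul_pow, mul_inv_cancel_left]
    exact H.pow_mem hh p
  -- the centre is `(H ⊓ Z) Z^p`
  have hstep : ∀ z ∈ center G, ∃ z' ∈ center G, z * z' ^ p ∈ H := by
    intro z hz
    have hz2 := hz
    rw [D.center_eq hodd] at hz2
    induction hz2 using closure_induction with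
    | mem x hx =>
      rcases hx with rfl | rfl
      · exact key D.a
      · exact key D.b
    | one => exact ⟨1, one_mem _, by simp⟩
    | mul x y hx hy ihx ihy =>
      rw [← D.center_eq hodd] at hx hy
      obtain ⟨x', hx', hxH⟩ := ihx hx
      obtain ⟨y', hy', hyH⟩ := ihy hy
      refine ⟨x' * y', mul_mem hx' hy', ?_⟩
      have c1 : Commute x' y' := (mem_center_iff.mp hy' x')
      have c2 : Commute y (x' ^ p) := (mem_center_iff.mp (pow_mem hx' p) y)
      rw [c1.mul_pow, mul_assoc x, ← mul_assoc y, c2.eq, mul_assoc (x' ^ p), ← mul_assoc x]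
      exact mul_mem hxH hyH
    | inv x hx ih =>
      rw [← D.center_eq hodd] at hx
      obtain ⟨x', hx', hxH⟩ := ih hx
      refine ⟨x'⁻¹, inv_mem hx', ?_⟩
      have c1 : Commute x (x' ^ p) := mem_center_iff.mp (pow_mem hx' p) x
      rw [inv_pow, ← mul_inv_rev, ← c1.eq]
      exact inv_mem hxH
  have hiter : ∀ k : ℕ, ∀ z ∈ center G, ∃ z' ∈ center G, z * z' ^ p ^ k ∈ H := by
    intro k
    induction k with
    | zero =>
      intro z hz
      exact ⟨z⁻¹, inv_mem hz, by simp⟩
    | succ k ih =>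
      intro z hz
      obtain ⟨z₁, hz₁, h1⟩ := ih z hz
      obtain ⟨z₂, hz₂, h2⟩ := hstep z₁ hz₁
      refine ⟨z₂⁻¹, inv_mem hz₂, ?_⟩
      have c1 : Commute z₁ (z₂ ^ p) := mem_center_iff.mp (pow_mem hz₂ p) z₁
      have h3 := mul_mem h1 (inv_mem (H.pow_mem h2 (p ^ k)))
      rw [c1.mul_pow, mul_inv_rev, ← pow_mul, ← pow_succ'] at h3
      have c2 : Commute ((z₂ ^ p ^ (k + 1))⁻¹) (z₁ ^ p ^ k)⁻¹ :=
        mem_center_iff.mp (inv_mem (pow_mem hz₁ _)) _
      rw [c2.eq, ← mul_assoc, mul_assoc z, mul_inv_cancel, mul_one, ← inv_pow] at h3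
      exact h3
  intro z hz
  obtain ⟨z', hz', h⟩ := hiter (D.m + D.r) z hz
  have ha : D.a ^ p ^ (D.m + D.r) = 1 := by
    rw [pow_add p, mul_comm, pow_mul, ← D.order_a, pow_orderOf_eq_one, one_pow]
  have hb : D.b ^ p ^ (D.m + D.r) = 1 := by
    rw [pow_add p, pow_mul, D.hbc, ← pow_mul, mul_comm, pow_mul, ← D.order_a, pow_orderOf_eq_one,
      one_pow]
  have hone : z' ^ p ^ (D.m + D.r) = 1 := by
    rw [D.coord_spec z'] at hz' ⊢
    obtain ⟨⟨i, hi⟩, j, hj⟩ := D.coord_of_center hodd hz'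
    have hcb : D.b ^ p ^ D.n ∈ center G := by
      rw [D.center_eq hodd]; exact Subgroup.subset_closure (Set.mem_insert_of_mem _ rfl)
    have hc : Commute (D.a ^ D.ei z') (D.b ^ D.ej z') := by
      rw [hj, pow_mul D.b]
      exact mem_center_iff.mp (pow_mem hcb j) _
    rw [hc.mul_pow, ← pow_mul, ← pow_mul, mul_comm (D.ei z'), mul_comm (D.ej z'), pow_mul, pow_mul,
      ha, hb, one_pow, one_pow, one_mul]
  rwa [hone, mul_one] at h

omit [Finite G] in
theorem commutator_eq : commutator G = zpowers (D.a ^ p ^ D.s) := by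
  have hcop : Nat.Coprime D.w (orderOf (D.a ^ p ^ D.s)) := by
    have h : orderOf (D.a ^ p ^ D.s) ∣ p ^ D.r := by
      rw [orderOf_dvd_iff_pow_eq_one, ← pow_mul, mul_comm, pow_mul, ← D.order_a, pow_orderOf_eq_one,
        one_pow]
    refine Nat.Coprime.coprime_dvd_right h (Nat.Coprime.pow_right _ ?_)
    exact ((Nat.Prime.coprime_iff_not_dvd Fact.out).mpr D.not_dvd_w).symm
  apply le_antisymm
  · rw [_root_.commutator_def, commutator_le]
    intro g _ h _
    rw [commutatorElement_def, D.coord_spec g, D.coord_spec h, mul_assoc, ← mul_inv_rev,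
      D.mul_coord, D.mul_coord, add_comm (D.ej h), mul_inv_rev, ← mul_assoc, mul_inv_cancel_right,
      D.u_pow, D.u_pow]
    set q := p ^ D.s
    rw [Nat.mul_add, Nat.mul_add, mul_one, mul_one, mul_left_comm (D.ei h) q,
      mul_left_comm (D.ei g) q]
    have hz : ∀ k : ℕ, D.a ^ (q * k) ∈ zpowers (D.a ^ q) := fun k => by
      rw [pow_mul]; exact pow_mem (mem_zpowers _) k
    have key : ∀ I K A B : ℕ, D.a ^ (I + (q * A + K)) * (D.a ^ (K + (q * B + I)))⁻¹
        = D.a ^ (q * A) * (D.a ^ (q * B))⁻¹ := by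
      intro I K A B
      rw [show I + (q * A + K) = q * A + (I + K) by ring, show K + (q * B + I) = q * B + (I + K) by
        ring, pow_add D.a (q * A), pow_add D.a (q * B), mul_inv_rev, mul_assoc, mul_inv_cancel_left]
    rw [key]
    exact mul_mem (hz _) (inv_mem (hz _))
  · rw [zpowers_le]
    have h1 : ⁅D.b, D.a⁆ ∈ commutator G := by
      rw [_root_.commutator_def]; exact commutator_mem_commutator (mem_top _) (mem_top _)
    have h2 : ⁅D.b, D.a⁆ = (D.a ^ p ^ D.s) ^ D.w := by
      rw [commutatorElement_def, D.hconj, ← pow_mul, pow_succ, mul_inv_cancel_right]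
    obtain ⟨k, hk⟩ := exists_pow_eq_self_of_coprime hcop
    rw [← hk, ← h2]
    exact pow_mem h1 k

omit [Fact p.Prime] [Finite G] in
theorem orderOf_commutator_gen : orderOf (D.a ^ p ^ D.s) = p ^ D.n := by
  apply Nat.dvd_antisymm
  · rw [orderOf_dvd_iff_pow_eq_one, ← pow_mul, ← orderOf_dvd_iff_pow_eq_one, D.order_a,
      D.dvd_iff]
  · rw [← D.dvd_iff, ← D.order_a, orderOf_dvd_iff_pow_eq_one, pow_mul, pow_orderOf_eq_one]

omit [Finite G] in
theorem card_commutator : Nat.card (commutator G) = p ^ D.n := by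
  rw [D.commutator_eq, Nat.card_zpowers, D.orderOf_commutator_gen]

theorem commutator_index (hodd : Odd p) :
    (commutator G).index = Nat.card (center G) * p ^ D.n := by
  have h := (commutator G).card_mul_index
  rw [D.card_commutator, D.card_eq hodd, two_mul, pow_add, ← mul_assoc, mul_comm _ (p ^ D.n)] at h
  exact Nat.eq_of_mul_eq_mul_left (pow_pos (Fact.out : p.Prime).pos _) h

theorem commutator_index_sq (hodd : Odd p) :
    (commutator G).index ^ 2 = Nat.card G * Nat.card (center G) := by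
  rw [D.commutator_index hodd, D.card_eq hodd]; ring

/-- The key inequality for abelian subgroups. -/
theorem abelian_card_le (hodd : Odd p) {H : Subgroup G} (hH : IsMulCommutative H) :
    Nat.card H ≤ (commutator G).index ∧
      (Nat.card H = (commutator G).index ↔ centralizer (H : Set G) ≤ H) := by
  have hle := (isMulCommutative_iff H).mp hH
  have h1 := D.card_mul_card_centralizer hodd (le_sup_right : center G ≤ H ⊔ center G)
  rw [centralizer_sup_center] at h1
  have h2 : H ⊔ center G ≤ centralizer (H : Set G) :=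
    sup_le hle (fun z hz => mem_centralizer_iff.mpr fun x _ => mem_center_iff.mp hz x)
  have l1 : Nat.card H ≤ Nat.card (H ⊔ center G : Subgroup G) := card_le_of_le le_sup_left
  have l2 := card_le_of_le h2
  have hsq := D.commutator_index_sq hodd
  refine ⟨by nlinarith, fun heq => ?_, fun hc => ?_⟩
  · have e1 : Nat.card (centralizer (H : Set G)) ≤ Nat.card H := by
      by_contra hlt
      push Not at hlt
      have : 0 < Nat.card H := Nat.card_pos
      nlinarith
    exact (eq_of_le_of_card_ge hle e1).ge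
  · have e : centralizer (H : Set G) = H := le_antisymm hc hle
    have hsup : H ⊔ center G = H :=
      le_antisymm ((sup_le hle (fun z hz => mem_centralizer_iff.mpr
        fun x _ => mem_center_iff.mp hz x)).trans hc) le_sup_left
    rw [e, hsup, ← hsq, sq] at h1
    exact (Nat.mul_self_inj).mp h1

theorem centralizer_le_of_not_comm (hodd : Odd p) {H : Subgroup G} (hH : ¬ IsMulCommutative H) :
    centralizer (H : Set G) ≤ H := by
  obtain ⟨e, he, f, hf, hd⟩ := D.not_comm_pdet (hodd := hodd) hH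
  rw [D.centralizer_eq hodd]
  intro g hg
  rw [← D.pre_img_of_le hodd (D.center_le_of_not_comm hodd hH)]
  exact perp_le_of_pdet_ne_zero he hf hd hg

end CfsgLib.Metacyclic.MetaData
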