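import Mathlib
import Cfsg.Agent.Lib.Metacyclic.Subgroups

/-!
Elements of a metacyclic `p`-group (`p` odd): class sizes, power subgroups and the Frattini subgroup.
-/

namespace CfsgLib.Metacyclic.MetaData

open Subgroup

variable {G : Type*} [Group G] {p : ℕ} [Fact p.Prime] (D : MetaData G p)

include D

theorem img_zpowers (hodd : Odd p) (g : G) :
    D.img hodd (zpowers g) = Submodule.span (ZMod (p ^ D.n)) {D.psi g} := by
  apply le_antisymm
  · rintro _ ⟨x, hx, rfl⟩
    have hx' : x ∈ D.pre (Submodule.span (ZMod (p ^ D.n)) {D.psi g}) :=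
      (zpowers_le.mpr (show g ∈ D.pre (Submodule.span (ZMod (p ^ D.n)) {D.psi g}) from
        Submodule.mem_span_singleton_self _)) hx
    exact hx'
  · rw [Submodule.span_singleton_le_iff_mem]
    exact D.psi_mem_img (mem_zpowers g)

theorem card_span_singleton (e : Plane p D.n) :
    Nat.card (Submodule.span (ZMod (p ^ D.n)) {e}) = addOrderOf e := by
  have : NeZero (p ^ D.n) := ⟨pow_ne_zero _ (Fact.out : p.Prime).ne_zero⟩
  rw [← Nat.card_zmultiples]
  refine Nat.card_congr (Equiv.subtypeEquivRight fun x => ?_)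
  rw [Submodule.mem_span_singleton, AddSubgroup.mem_zmultiples_iff]
  constructor
  · rintro ⟨c, rfl⟩
    refine ⟨c.val, ?_⟩
    rw [natCast_zsmul, ← Nat.cast_smul_eq_nsmul (ZMod (p ^ D.n)), ZMod.natCast_rightInverse c]
  · rintro ⟨k, rfl⟩
    exact ⟨k, Int.cast_smul_eq_zsmul _ k e⟩

omit [Fact p.Prime] in
theorem addOrderOf_dvd_pow_iff (e : Plane p D.n) (k : ℕ) :
    addOrderOf e ∣ p ^ k ↔ (p : ZMod (p ^ D.n)) ^ k • e = 0 := by
  rw [addOrderOf_dvd_iff_nsmul_eq_zero, ← Nat.cast_smul_eq_nsmul (ZMod (p ^ D.n)), Nat.cast_pow]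

theorem addOrderOf_le_pow_iff (e : Plane p D.n) (k : ℕ) :
    addOrderOf e ≤ p ^ k ↔ (p : ZMod (p ^ D.n)) ^ k • e = 0 := by
  have hp : p.Prime := Fact.out
  have h1 : addOrderOf e ∣ p ^ D.n := by
    rw [D.addOrderOf_dvd_pow_iff, show (p : ZMod (p ^ D.n)) ^ D.n = 0 by
      exact_mod_cast ZMod.natCast_self (p ^ D.n), zero_smul]
  obtain ⟨j, -, hj⟩ := (Nat.dvd_prime_pow hp).mp h1
  rw [← D.addOrderOf_dvd_pow_iff, hj, Nat.pow_le_pow_iff_right hp.one_lt,
    Nat.pow_dvd_pow_iff_le_right hp.one_lt]

variable [Finite G]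

/-- The class size of `g` is the additive order of its image. -/
theorem centralizer_singleton_index (hodd : Odd p) (g : G) :
    (centralizer ({g} : Set G)).index = addOrderOf (D.psi g) := by
  rw [← centralizer_closure, ← zpowers_eq_closure]
  have h1 := D.card_pre hodd (perp (D.img hodd (zpowers g)))
  rw [← D.centralizer_eq hodd] at h1
  have h2 := (centralizer (zpowers g : Set G)).card_mul_index
  have h3 := card_mul_card_perp (D.img hodd (zpowers g))
  rw [h1, D.card_eq hodd, ← h3, mul_assoc] at h2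
  have h4 := Nat.eq_of_mul_eq_mul_left Nat.card_pos h2
  rw [mul_comm (Nat.card (D.img hodd (zpowers g)))] at h4
  rw [← D.card_span_singleton, ← D.img_zpowers hodd]
  have : NeZero (p ^ D.n) := ⟨pow_ne_zero _ (Fact.out : p.Prime).ne_zero⟩
  exact Nat.eq_of_mul_eq_mul_left Nat.card_pos h4

omit [Finite G] in
theorem psi_pow_prime_pow (hodd : Odd p) (g : G) (s : ℕ) :
    ∃ c : ZMod (p ^ D.n), D.psi (g ^ p ^ s) = ((p : ZMod (p ^ D.n)) ^ s * c) • D.psi g := by
  obtain ⟨c, hc⟩ : p ^ s ∣ geomS (D.u ^ D.ej g) (p ^ s) :=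
    (pow_dvd_geomS_iff Fact.out hodd (by simpa using D.u_modEq.pow (D.ej g)) _ _).mpr dvd_rfl
  exact ⟨(c : ℕ), by rw [D.psi_pow, hc, Nat.cast_mul, Nat.cast_pow]⟩

omit [Finite G] in
theorem mem_power_closure_iff (hodd : Odd p) {s : ℕ} (hs : s ≤ D.n) (g : G) :
    g ∈ closure {x : G | ∃ y : G, y ^ p ^ s = x} ↔
      (p : ZMod (p ^ D.n)) ^ (D.n - s) • D.psi g = 0 := by
  set P := closure {x : G | ∃ y : G, y ^ p ^ s = x} with hP
  set P' : ZMod (p ^ D.n) := (p : ZMod (p ^ D.n))
  have hP'n : P' ^ D.n = 0 := (Nat.cast_pow p D.n).symm.trans (ZMod.natCast_self (p ^ D.n))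
  have hpow : ∀ y : G, y ^ p ^ s ∈ P := fun y => subset_closure ⟨y, rfl⟩
  constructor
  · intro hg
    let T : Submodule (ZMod (p ^ D.n)) (Plane p D.n) :=
      { carrier := {e | P' ^ (D.n - s) • e = 0}
        add_mem' := fun {a b} ha hb => by
          simp only [Set.mem_ofPred_eq] at ha hb ⊢
          rw [smul_add, ha, hb, add_zero]
        zero_mem' := smul_zero _
        smul_mem' := fun c x hx => by
          simp only [Set.mem_ofPred_eq] at hx ⊢
          rw [smul_comm, hx, smul_zero] }
    have hle : P ≤ D.pre T := by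
      rw [hP, closure_le]
      rintro _ ⟨y, rfl⟩
      obtain ⟨c, hc⟩ := D.psi_pow_prime_pow hodd y s
      change P' ^ (D.n - s) • D.psi (y ^ p ^ s) = 0
      rw [hc, smul_smul, ← mul_assoc, ← pow_add, Nat.sub_add_cancel hs, hP'n, zero_mul, zero_smul]
    exact hle hg
  · intro hg
    have hZ : center G ≤ P := by
      rw [D.center_eq hodd, closure_le]
      have e : ∀ y : G, y ^ p ^ D.n = (y ^ p ^ (D.n - s)) ^ p ^ s := fun y => by
        rw [← pow_mul, ← pow_add, Nat.sub_add_cancel hs]
      rintro x (rfl | rfl)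
      · rw [e]; exact hpow _
      · rw [e]; exact hpow _
    obtain ⟨e, he⟩ := plane_torsion_eq_multiples (D.n - s) (by omega) _ hg
    rw [show D.n - (D.n - s) = s by omega] at he
    rw [← D.pre_img_of_le hodd hZ, D.mem_pre, he]
    -- the images of `a ^ p ^ s` and `b ^ p ^ s`
    have key : ∀ y : G, P' ^ s • D.psi y ∈ D.img hodd P := by
      intro y
      obtain ⟨c, hc, hcp⟩ : ∃ c, geomS (D.u ^ D.ej y) (p ^ s) = p ^ s * c ∧ ¬ p ∣ c :=
        exists_geomS_factor Fact.out hodd (by simpa using D.u_modEq.pow (D.ej y)) s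
      have hu : IsUnit ((c : ℕ) : ZMod (p ^ D.n)) :=
        (ZMod.isUnit_iff_coprime _ _).mpr
          ((Nat.Coprime.pow_right _ ((Nat.Prime.coprime_iff_not_dvd Fact.out).mpr hcp).symm))
      obtain ⟨z, hz⟩ := hu.exists_right_inv
      have h1 := (D.img hodd P).smul_mem z (D.psi_mem_img (hpow y))
      rw [D.psi_pow, hc, Nat.cast_mul, Nat.cast_pow, smul_smul, mul_left_comm, mul_comm z, hz,
        mul_one] at h1
      exact h1
    have e2 : e = e.1 • D.psi D.a + e.2 • D.psi D.b := by
      rw [D.psi_a, D.psi_b]; ext <;> simp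
    rw [e2, smul_add, smul_comm _ e.1, smul_comm _ e.2]
    exact Submodule.add_mem _ (Submodule.smul_mem _ _ (key _)) (Submodule.smul_mem _ _ (key _))

theorem mem_frattini_iff (hodd : Odd p) (hG : IsPGroup p G) (hn : 1 ≤ D.n) (g : G) :
    g ∈ frattini G ↔ (p : ZMod (p ^ D.n)) ^ (D.n - 1) • D.psi g = 0 := by
  have hp : p.Prime := Fact.out
  constructor
  · intro hg
    by_contra hne
    -- one of the two coordinates is a unit
    have hco : ∀ (φ : Plane p D.n →ₗ[ZMod (p ^ D.n)] ZMod (p ^ D.n)), Function.Surjective φ →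
        (p : ZMod (p ^ D.n)) ^ (D.n - 1) * φ (D.psi g) = 0 := by
      intro φ hφ
      let ψ' : Plane p D.n →ₗ[ZMod (p ^ D.n)] ZMod (p ^ D.n) :=
        ((p : ZMod (p ^ D.n)) ^ (D.n - 1)) • φ
      by_contra hx
      have hT : g ∉ D.pre (LinearMap.ker ψ') := hx
      apply hT
      have hidx : IsCoatom (D.pre (LinearMap.ker ψ')) := by
        have hidx : (D.pre (LinearMap.ker ψ')).index = p := by
          have hc := (D.pre (LinearMap.ker ψ')).card_mul_index
          rw [D.card_pre hodd, D.card_eq hodd, mul_assoc] at hc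
          have hc2 := Nat.eq_of_mul_eq_mul_left Nat.card_pos hc
          have h3 : Nat.card (LinearMap.range ψ') * Nat.card (LinearMap.ker ψ') = p ^ (2 * D.n) := by
            have h4 := Submodule.card_eq_card_quotient_mul_card (LinearMap.ker ψ')
            rw [Nat.card_congr ψ'.quotKerEquivRange.toEquiv] at h4
            rw [mul_comm]
            rw [mul_comm] at h4
            rw [mul_comm, ← h4]
            simp [two_mul, pow_add]
          have h5 : Nat.card (LinearMap.range ψ') = p := by
            have h1 := torsion_card (p := p) (n := D.n) 1 hn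
            rw [pow_one, pow_one] at h1
            refine Eq.trans ?_ h1
            refine Nat.card_congr (Equiv.subtypeEquivRight fun x => ?_)
            rw [LinearMap.mem_range]
            constructor
            · rintro ⟨y, rfl⟩
              change (p : ZMod (p ^ D.n)) * ((p : ZMod (p ^ D.n)) ^ (D.n - 1) * φ y) = 0
              rw [← mul_assoc, ← pow_succ', Nat.sub_add_cancel hn, ← Nat.cast_pow,
                ZMod.natCast_self, zero_mul]
            · intro hx'
              obtain ⟨z, hz⟩ := torsion_eq_multiples 1 hn x (by rwa [pow_one])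
              obtain ⟨y, hy⟩ := hφ z
              exact ⟨y, by simp [ψ', hy, hz]⟩
          have : NeZero (p ^ D.n) := ⟨pow_ne_zero _ hp.ne_zero⟩
          rw [← h3, mul_comm (Nat.card (LinearMap.range ψ'))] at hc2
          exact (Nat.eq_of_mul_eq_mul_left Nat.card_pos hc2).trans h5
        refine ⟨fun htop => ?_, fun K hK => ?_⟩
        · rw [htop, index_top] at hidx
          exact hp.one_lt.ne hidx
        · have h1 : K.index ∣ p := hidx ▸ index_dvd_of_le hK.le
          rcases (Nat.dvd_prime hp).mp h1 with h | h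
          · exact index_eq_one.mp h
          · exfalso
            have h2 := relIndex_mul_index hK.le
            rw [hidx, h] at h2
            have h3 : (D.pre (LinearMap.ker ψ')).relIndex K = 1 := by
              have := hp.pos
              nlinarith
            exact absurd (relIndex_eq_one.mp h3) (not_le_of_gt hK)
      exact frattini_le_coatom hidx hg
    apply hne
    refine Prod.ext ?_ ?_
    · exact hco (LinearMap.fst _ _ _) Prod.fst_surjective
    · exact hco (LinearMap.snd _ _ _) Prod.snd_surjective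
  · intro hg
    have h1 := (D.mem_power_closure_iff hodd hn g).mpr hg
    suffices hle : closure {x : G | ∃ y : G, y ^ p ^ 1 = x} ≤ frattini G from hle h1
    rw [closure_le]
    rintro _ ⟨y, rfl⟩
    rw [SetLike.mem_coe, pow_one, frattini, Order.radical, mem_iInf]
    intro M
    rw [mem_iInf]
    intro hM
    have hnil : Group.IsNilpotent G := hG.isNilpotent
    have hMn : M.Normal := Subgroup.NormalizerCondition.normal_of_coatom M normalizerCondition_of_isNilpotent hM
    by_contra hy
    have htop : M ⊔ zpowers (y ^ p) = ⊤ :=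
      hM.2 _ (left_lt_sup.mpr (by rwa [zpowers_le]))
    obtain ⟨x, hx, z, hz, hxz⟩ := (mem_sup_of_normal_left (s := M)).mp (htop ▸ mem_top y)
    obtain ⟨k, rfl⟩ := mem_zpowers_iff.mp hz
    -- the image of `y` has order prime to `p`, hence is trivial
    have h3 : ((y : G ⧸ M)) = ((y : G ⧸ M)) ^ ((p : ℤ) * k) := by
      conv_lhs => rw [← hxz]
      rw [QuotientGroup.mk_mul, (QuotientGroup.eq_one_iff x).mpr hx, one_mul, QuotientGroup.mk_zpow,
        QuotientGroup.mk_pow, ← zpow_natCast, zpow_mul]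
    have h4 : (orderOf (y : G ⧸ M) : ℤ) ∣ (p : ℤ) * k - 1 := by
      rw [orderOf_dvd_iff_zpow_eq_one, zpow_sub, zpow_one, ← h3, mul_inv_cancel]
    obtain ⟨j, hj⟩ := (hG.to_quotient M).exists_orderOf_eq_pow (y : G ⧸ M)
    rcases Nat.eq_zero_or_pos j with rfl | hj0
    · rw [pow_zero, orderOf_eq_one_iff, QuotientGroup.eq_one_iff] at hj
      exact hy (M.pow_mem hj p)
    · rw [hj, Nat.cast_pow] at h4
      have h5 : (p : ℤ) ∣ (p : ℤ) * k - 1 := (dvd_pow_self _ (by omega)).trans h4
      have h6 : (p : ℤ) ∣ 1 := by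
        have := dvd_sub (dvd_mul_right (p : ℤ) k) h5
        simpa using this
      exact hp.not_dvd_one (by exact_mod_cast h6)

end CfsgLib.Metacyclic.MetaData
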